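import Mathlib

/-!
# Field data for the universal Schmidt group

`F` is the field with `p ^ a` elements, `ζ` has order `q`, `a` the order of `p` mod `q`.
An alternating `ζ`-invariant biadditive map on `F` factors through `(x, y) ↦ σ x * y`
modulo `N`, where `|F/N| = p ^ (a / 2)` for even `a` and `F/N` is trivial for odd `a`.
-/

universe v

namespace Cfsg.Agent.SchmidtUniv

open scoped _root_.Classical

variable {F : Type} [Field F]

/-- the parameters -/
structure IsPar (p q : ℕ) (ζ : F) (σ : F →+* F) (θ : F) (N : AddSubgroup F) : Prop where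
  charp : CharP F p
  ord : orderOf ζ = q
  gen : ∀ S : AddSubgroup F, (1 : F) ∈ S → (∀ x ∈ S, ζ * x ∈ S) → S = ⊤
  hinv : ∀ u, σ ζ * ζ * u - u ∈ N
  halt : ∀ x y, θ * σ x * y - θ * σ y * x - σ x * y ∈ N
  rep : ∀ (A : Type v) [AddCommGroup A] (b : F →+ F →+ A), (∀ x, b x x = 0) →
    (∀ x y, b (ζ * x) (ζ * y) = b x y) →
      (∀ x y, b x y = b 1 (σ x * y)) ∧ ∀ u ∈ N, b 1 u = 0

/-- a biadditive map invariant under `ζ` is trivial, or factors through a ring
endomorphism inverting `ζ` -/
theorem invariant_biadd {ζ : F} (hζ : ζ ≠ 0)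
    (hgen : ∀ S : AddSubgroup F, (1 : F) ∈ S → (∀ x ∈ S, ζ * x ∈ S) → S = ⊤)
    {A : Type v} [AddCommGroup A] (b : F →+ F →+ A)
    (hb : ∀ x y, b (ζ * x) (ζ * y) = b x y) :
    (∀ x y, b x y = 0) ∨
      ∃ τ : F →+* F, τ ζ = ζ⁻¹ ∧ ∀ x y, b x y = b 1 (τ x * y) := by
  set S : Subring (F × F) := Subring.closure {(ζ, ζ⁻¹)} with hS
  have hstep : ∀ x y, b (ζ * x) y = b x (ζ⁻¹ * y) := by
    intro x y
    rw [← hb x (ζ⁻¹ * y), ← mul_assoc, mul_inv_cancel₀ hζ, one_mul]
  have hP : ∀ u ∈ S, ∀ x y, b (u.1 * x) y = b x (u.2 * y) := by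
    intro u hu
    induction hu using Subring.closure_induction with
    | mem u hu =>
      simp only [Set.mem_singleton_iff] at hu
      subst hu
      exact hstep
    | zero => intro x y; simp
    | one => intro x y; simp
    | add u w _ _ ihu ihw =>
      intro x y
      simp only [Prod.fst_add, Prod.snd_add, add_mul, map_add, AddMonoidHom.add_apply]
      rw [ihu, ihw]
    | neg u _ ihu =>
      intro x y
      simp only [Prod.fst_neg, Prod.snd_neg, neg_mul, map_neg, AddMonoidHom.neg_apply]
      rw [ihu]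
    | mul u w _ _ ihu ihw =>
      intro x y
      simp only [Prod.fst_mul, Prod.snd_mul]
      rw [mul_assoc, ihu, ihw, ← mul_assoc, mul_comm w.2 u.2]
  set f : ↥S →+* F := (RingHom.fst F F).comp S.subtype with hf
  set g : ↥S →+* F := (RingHom.snd F F).comp S.subtype with hg
  have hsurj : Function.Surjective f := by
    intro x
    have h := hgen f.range.toAddSubgroup ⟨1, map_one f⟩ (fun w hw => f.range.mul_mem
      ⟨⟨(ζ, ζ⁻¹), Subring.subset_closure rfl⟩, rfl⟩ hw)
    have hx : x ∈ f.range.toAddSubgroup := by rw [h]; trivial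
    exact hx
  have hb1 : ∀ (u : ↥S) y, b (f u) y = b 1 (g u * y) := fun u y => by
    have := hP u u.2 1 y
    rw [mul_one] at this
    exact this
  by_cases hker : ∃ u : ↥S, f u = 0 ∧ g u ≠ 0
  · obtain ⟨u, hu0, hu1⟩ := hker
    have h1 : ∀ y, b 1 y = 0 := fun y => by
      have := hb1 u ((g u)⁻¹ * y)
      rw [hu0, map_zero, AddMonoidHom.zero_apply, ← mul_assoc, mul_inv_cancel₀ hu1, one_mul] at this
      exact this.symm
    left
    intro x y
    obtain ⟨u, rfl⟩ := hsurj x
    rw [hb1, h1]
  · push_neg at hker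
    have hk : RingHom.ker f ≤ RingHom.ker g := fun u hu => hker u hu
    refine Or.inr ⟨RingHom.liftOfSurjective f hsurj ⟨g, hk⟩, ?_, fun x y => ?_⟩
    · have := RingHom.liftOfRightInverse_comp_apply f _ (Function.rightInverse_surjInv hsurj)
        ⟨g, hk⟩ ⟨(ζ, ζ⁻¹), Subring.subset_closure rfl⟩
      exact this
    · obtain ⟨u, rfl⟩ := hsurj x
      rw [hb1]
      congr 2
      exact (RingHom.liftOfRightInverse_comp_apply f _ (Function.rightInverse_surjInv hsurj)
        ⟨g, hk⟩ u).symm

variable (p q a : ℕ) [Fact p.Prime] [Fact q.Prime]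

theorem exists_root (hpq : p ≠ q) (ha : a = orderOf (p : ZMod q)) :
    0 < a ∧ ∃ ζ : GaloisField p a, orderOf ζ = q ∧
      ∀ S : AddSubgroup (GaloisField p a), (1 : GaloisField p a) ∈ S →
        (∀ x ∈ S, ζ * x ∈ S) → S = ⊤ := by
  have hp := (Fact.out : p.Prime)
  have hq := (Fact.out : q.Prime)
  have hp0 : (p : ZMod q) ≠ 0 := by
    rw [Ne, ZMod.natCast_eq_zero_iff]
    exact fun h => hpq ((Nat.prime_dvd_prime_iff_eq hq hp).1 h).symm
  have hfo : IsOfFinOrder (p : ZMod q) :=
    isOfFinOrder_iff_pow_eq_one.2 ⟨q - 1, by have := hq.two_le; omega,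
      ZMod.pow_card_sub_one_eq_one hp0⟩
  have ha0 : 0 < a := ha ▸ hfo.orderOf_pos
  refine ⟨ha0, ?_⟩
  haveI : Finite (GaloisField p a) :=
    Nat.finite_of_card_ne_zero (by rw [GaloisField.card p a ha0.ne']; exact pow_ne_zero _ hp.ne_zero)
  haveI : Fintype (GaloisField p a) := Fintype.ofFinite _
  have hcard : Nat.card (GaloisField p a)ˣ = p ^ a - 1 := by
    rw [Nat.card_units, GaloisField.card p a ha0.ne']
  have hdvd : q ∣ p ^ a - 1 := by
    rw [← ZMod.natCast_eq_zero_iff, Nat.cast_sub (Nat.one_le_pow _ _ hp.pos), Nat.cast_pow, ha,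
      pow_orderOf_eq_one, Nat.cast_one, sub_self]
  obtain ⟨z, hz⟩ := exists_prime_orderOf_dvd_card' q (hcard ▸ hdvd)
  refine ⟨(z : GaloisField p a), by rw [orderOf_units, hz], fun S h1 hS => ?_⟩
  -- the subring of multipliers of `S` is a subfield containing `ζ`
  let R : Subring (GaloisField p a) :=
    { carrier := {u | ∀ x ∈ S, u * x ∈ S}
      one_mem' := fun x hx => by simpa using hx
      mul_mem' := fun {u w} hu hw x hx => by rw [mul_assoc]; exact hu _ (hw x hx)
      zero_mem' := fun x hx => by simp [S.zero_mem]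
      add_mem' := fun {u w} hu hw x hx => by rw [add_mul]; exact S.add_mem (hu x hx) (hw x hx)
      neg_mem' := fun {u} hu x hx => by rw [neg_mul]; exact S.neg_mem (hu x hx) }
  haveI : Fintype ↥R := Fintype.ofFinite _
  letI : Field ↥R := Fintype.fieldOfDomain _
  obtain ⟨n, hpr, hn⟩ := FiniteField.card ↥R p
  rw [← Nat.card_eq_fintype_card] at hn
  have hR : R.toAddSubgroup = ⊤ := by
    have hzR : (z : GaloisField p a) ∈ R := hS
    have hz1 : orderOf (⟨z, hzR⟩ : ↥R) = q := by
      rw [← hz, ← orderOf_units, ← orderOf_injective R.subtype.toMonoidHom Subtype.val_injective]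
      rfl
    have hzu : (⟨z, hzR⟩ : ↥R) ≠ 0 := fun h => z.ne_zero (congrArg Subtype.val h)
    have h2 : q ∣ p ^ (n : ℕ) - 1 := by
      rw [← hz1, ← hn, ← Nat.card_units, ← Units.val_mk0 hzu, orderOf_units]
      exact orderOf_dvd_natCard _
    have h3 : (p : ZMod q) ^ (n : ℕ) = 1 := by
      rw [← ZMod.natCast_eq_zero_iff, Nat.cast_sub (Nat.one_le_pow _ _ hp.pos), Nat.cast_pow,
        Nat.cast_one, sub_eq_zero] at h2
      exact h2
    have h4 : a ≤ n := Nat.le_of_dvd n.pos (ha ▸ orderOf_dvd_of_pow_eq_one h3)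
    refine AddSubgroup.eq_top_of_le_card _ ?_
    rw [GaloisField.card p a ha0.ne']
    exact (Nat.pow_le_pow_right hp.pos h4).trans hn.ge
  rw [eq_top_iff]
  intro x _
  have hx : x ∈ R.toAddSubgroup := by rw [hR]; trivial
  change x ∈ R at hx
  simpa using hx 1 h1

/-- existence of the parameters -/
theorem exists_par (hpq : p ≠ q) (ha : a = orderOf (p : ZMod q)) :
    ∃ (F : Type) (_ : Field F) (ζ : F) (σ : F →+* F) (θ : F) (N : AddSubgroup F),
      Finite F ∧ IsPar.{v} p q ζ σ θ N ∧ Nat.card F = p ^ a ∧
        Nat.card (F ⧸ N) = p ^ (if a % 2 = 1 then 0 else a / 2) := by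
  have hp := (Fact.out : p.Prime)
  have hq := (Fact.out : q.Prime)
  obtain ⟨ha0, ζ, hζ, hgen⟩ := exists_root p q a hpq ha
  haveI : Finite (GaloisField p a) :=
    Nat.finite_of_card_ne_zero (by rw [GaloisField.card p a ha0.ne']; exact pow_ne_zero _ hp.ne_zero)
  haveI : Fintype (GaloisField p a) := Fintype.ofFinite _
  have hζ0 : ζ ≠ 0 := by
    intro h
    rw [h, orderOf_zero] at hζ
    exact hq.ne_zero hζ.symm
  have hζinj : ∀ i j : ℕ, ζ ^ i = ζ ^ j → (i : ZMod q) = j := by
    intro i j h
    rw [ZMod.natCast_eq_natCast_iff, ← hζ]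
    exact ((isOfFinOrder_iff_pow_eq_one.2 ⟨q, hq.pos, hζ ▸ pow_orderOf_eq_one ζ⟩).pow_eq_pow_iff_modEq).1 h
  by_cases hodd : a % 2 = 1
  · -- odd `a`: everything is trivial
    refine ⟨GaloisField p a, inferInstance, ζ, RingHom.id _, 0, ⊤, inferInstance,
      ⟨inferInstance, hζ, hgen, fun u => AddSubgroup.mem_top _, fun x y => AddSubgroup.mem_top _,
        ?_⟩, GaloisField.card p a ha0.ne', ?_⟩
    · intro A _ b halt hb
      have h0 : ∀ x y, b x y = 0 := by
        by_cases hq2 : q = 2
        · subst hq2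
          -- `a = 1`, so everything is a multiple of one
          intro x y
          have hz : ζ = -1 := by
            have h2 : ζ ^ 2 = 1 := by rw [← hζ]; exact pow_orderOf_eq_one ζ
            rcases sq_eq_one_iff.1 h2 with h | h
            · rw [h, orderOf_one] at hζ; exact absurd hζ (by norm_num)
            · exact h
          have htop : ∀ w : GaloisField p a, ∃ n : ℤ, w = n • (1 : GaloisField p a) := by
            intro w
            have hm := hgen (AddSubgroup.zmultiples 1) (AddSubgroup.mem_zmultiples _) (fun u hu => by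
              rw [hz, neg_one_mul]; exact neg_mem hu)
            have : w ∈ AddSubgroup.zmultiples (1 : GaloisField p a) := by rw [hm]; trivial
            obtain ⟨n, hn⟩ := AddSubgroup.mem_zmultiples_iff.1 this
            exact ⟨n, hn.symm⟩
          obtain ⟨m, rfl⟩ := htop x
          obtain ⟨n, rfl⟩ := htop y
          simp only [map_zsmul, AddMonoidHom.smul_apply, halt, smul_zero]
        · rcases invariant_biadd hζ0 hgen b hb with h | ⟨τ, hτ, -⟩
          · exact h
          · exfalso
            -- the endomorphism is a power of Frobenius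
            obtain ⟨i, hi⟩ : ∃ i : ℕ, ∀ x, τ x = x ^ p ^ i := by
              let τ' : GaloisField p a →ₐ[ZMod p] GaloisField p a :=
                { τ with commutes' := fun c =>
                    RingHom.congr_fun (RingHom.ext_zmod (τ.comp (algebraMap (ZMod p) _))
                      (algebraMap (ZMod p) _)) c }
              let e := AlgEquiv.ofBijective τ'
                ⟨τ.injective, Finite.injective_iff_surjective.1 τ.injective⟩
              obtain ⟨i, hi⟩ := (FiniteField.bijective_frobeniusAlgEquivOfAlgebraic_pow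
                (ZMod p) (GaloisField p a)).2 e
              refine ⟨i.1, fun x => ?_⟩
              have h := DFunLike.congr_fun hi x
              simp only [AlgEquiv.coe_pow, FiniteField.coe_frobeniusAlgEquivOfAlgebraic_iterate,
                ZMod.card] at h
              exact h.symm
            have h1 : (p : ZMod q) ^ i = -1 := by
              have h : ζ ^ (p ^ i + 1) = ζ ^ 0 := by
                rw [pow_succ, ← hi, hτ, inv_mul_cancel₀ hζ0, pow_zero]
              have := hζinj _ _ h
              push_cast at this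
              exact eq_neg_of_add_eq_zero_left this
            have h2 : (-1 : ZMod q) = 1 := by
              have h3 : ((p : ZMod q) ^ i) ^ a = 1 := by
                rw [← pow_mul, mul_comm, pow_mul, ha, pow_orderOf_eq_one, one_pow]
              rwa [h1, (Nat.odd_iff.2 hodd).neg_one_pow] at h3
            haveI : Fact (2 < q) := ⟨lt_of_le_of_ne hq.two_le (Ne.symm hq2)⟩
            exact ZMod.neg_one_ne_one h2
      exact ⟨fun x y => by rw [h0, h0], fun u _ => h0 1 u⟩
    · rw [if_pos hodd, pow_zero, Nat.card_eq_one_iff_unique]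
      exact ⟨QuotientAddGroup.subsingleton_quotient_top, inferInstance⟩
  · -- even `a`
    set h := a / 2 with hh
    have hah : a = h + h := by omega
    have hh0 : 0 < h := by omega
    set σ : GaloisField p a →+* GaloisField p a := iterateFrobenius (GaloisField p a) p h with hσ
    have hσx : ∀ x, σ x = x ^ p ^ h := fun x => rfl
    have hσσ : ∀ x, σ (σ x) = x := by
      intro x
      rw [hσx, hσx, ← pow_mul, ← pow_add, ← hah]
      conv_rhs => rw [← FiniteField.pow_card x]
      rw [← Nat.card_eq_fintype_card, GaloisField.card p a ha0.ne']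
    have hσζ : σ ζ = ζ⁻¹ := by
      have h1 : ((p : ZMod q) ^ h) ^ 2 = 1 := by
        rw [← pow_mul, show h * 2 = a by omega, ha, pow_orderOf_eq_one]
      rcases sq_eq_one_iff.1 h1 with h2 | h2
      · exfalso
        have := Nat.le_of_dvd hh0 (ha ▸ orderOf_dvd_of_pow_eq_one h2)
        omega
      · refine eq_inv_of_mul_eq_one_left ?_
        rw [hσx, ← pow_succ, ← orderOf_dvd_iff_pow_eq_one, hζ, ← ZMod.natCast_eq_zero_iff]
        push_cast
        rw [h2]; ring
    set T : GaloisField p a →+ GaloisField p a := AddMonoidHom.id _ + σ.toAddMonoidHom with hT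
    have hTx : ∀ x, T x = x + σ x := fun x => rfl
    -- both the range and the kernel are root sets of degree `p ^ h`
    have hroots : ∀ c : GaloisField p a, ∀ (U : AddSubgroup (GaloisField p a)),
        (∀ x ∈ U, σ x = c * x) → Nat.card ↥U ≤ p ^ h := by
      intro c U hU
      set f : Polynomial (GaloisField p a) := Polynomial.X ^ p ^ h - Polynomial.C c * Polynomial.X
      have h1 : 1 < p ^ h := Nat.one_lt_pow hh0.ne' hp.one_lt
      have hd : f.natDegree = p ^ h := by
        rw [show f = Polynomial.X ^ p ^ h - Polynomial.C c * Polynomial.X ^ 1 by simp [f]]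
        rw [Polynomial.natDegree_sub_eq_left_of_natDegree_lt, Polynomial.natDegree_X_pow]
        rw [Polynomial.natDegree_X_pow]
        exact lt_of_le_of_lt (Polynomial.natDegree_C_mul_X_pow_le _ _) h1
      have hf0 : f ≠ 0 := fun h0 => by rw [h0, Polynomial.natDegree_zero] at hd; omega
      rw [← hd]
      refine le_trans ?_ (f.card_roots')
      refine le_trans ?_ (Multiset.toFinset_card_le _)
      rw [← Nat.card_eq_finsetCard]
      exact Nat.card_le_card_of_injective
        (fun x : ↥U => (⟨x.1, by
          rw [Multiset.mem_toFinset, Polynomial.mem_roots hf0]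
          simp [f, ← hσx, hU x.1 x.2]⟩ : ↥f.roots.toFinset))
        (fun x y e => Subtype.ext (by simpa using e))
    have hr : Nat.card ↥T.range ≤ p ^ h :=
      hroots 1 _ (by rintro _ ⟨x, rfl⟩; rw [hTx, map_add, hσσ, one_mul, add_comm])
    have hk : Nat.card ↥T.ker ≤ p ^ h :=
      hroots (-1) _ (fun x hx => by
        rw [AddMonoidHom.mem_ker, hTx] at hx
        rw [neg_one_mul]; exact eq_neg_of_add_eq_zero_right hx)
    have hprod : Nat.card ↥T.range * Nat.card ↥T.ker = p ^ h * p ^ h := by
      rw [← pow_add, ← hah, ← GaloisField.card p a ha0.ne',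
        AddSubgroup.card_eq_card_quotient_mul_card_addSubgroup T.ker,
        Nat.card_congr (QuotientAddGroup.quotientKerEquivRange T).toEquiv]
    have hreq : Nat.card ↥T.range = p ^ h := by
      refine le_antisymm hr ?_
      by_contra hlt
      have := Nat.mul_lt_mul_of_lt_of_le (Nat.lt_of_not_le hlt) hk (pow_pos hp.pos _)
      omega
    obtain ⟨θ, hθ⟩ : ∃ θ, θ + σ θ = 1 := by
      obtain ⟨⟨w, hw⟩, hne⟩ : ∃ w : ↥T.range, (w : GaloisField p a) ≠ 0 := by
        by_contra hall
        push_neg at hall
        haveI : Subsingleton ↥T.range := ⟨fun x y => Subtype.ext (by rw [hall x, hall y])⟩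
        have h1 : 1 < p ^ h := Nat.one_lt_pow hh0.ne' hp.one_lt
        rw [Nat.card_of_subsingleton (0 : ↥T.range)] at hreq
        omega
      obtain ⟨x, rfl⟩ := hw
      refine ⟨x / T x, ?_⟩
      have hfix : σ (T x) = T x := by rw [hTx, map_add, hσσ, add_comm]
      rw [map_div₀, hfix, ← add_div, ← hTx, div_self hne]
    refine ⟨GaloisField p a, inferInstance, ζ, σ, θ, T.range, inferInstance,
      ⟨inferInstance, hζ, hgen, fun u => ?_, fun x y => ⟨-(σ θ * σ x * y), ?_⟩, ?_⟩,
      GaloisField.card p a ha0.ne', ?_⟩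
    · rw [hσζ, inv_mul_cancel₀ hζ0, one_mul, sub_self]; exact zero_mem _
    · rw [hTx, map_neg, map_mul, map_mul, hσσ, hσσ]
      linear_combination -(σ x * y) * hθ
    · intro A _ b halt hb
      have hskew : ∀ x y, b x y = - b y x := by
        intro x y
        have h := halt (x + y)
        simp only [map_add, AddMonoidHom.add_apply, halt, zero_add, add_zero] at h
        exact eq_neg_of_add_eq_zero_right h
      have hrep : ∀ x y, b x y = b 1 (σ x * y) := by
        rcases invariant_biadd hζ0 hgen b hb with h | ⟨τ, hτ, h⟩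
        · intro x y; rw [h, h]
        · have hτσ : τ = σ := by
            have htop := hgen (τ.toAddMonoidHom.eqLocus σ.toAddMonoidHom)
              (show τ 1 = σ 1 by simp) (fun w (hw : τ w = σ w) => by
                show τ (ζ * w) = σ (ζ * w)
                rw [map_mul, map_mul, hτ, hσζ, hw])
            ext w
            have : w ∈ τ.toAddMonoidHom.eqLocus σ.toAddMonoidHom := by rw [htop]; trivial
            exact this
          rwa [hτσ] at h
      refine ⟨hrep, ?_⟩
      rintro _ ⟨u, rfl⟩
      rw [hTx, map_add]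
      have h1 : b u 1 = b 1 (σ u) := by rw [hrep, mul_one]
      rw [← h1, hskew 1 u, neg_add_cancel]
    · rw [if_neg hodd]
      have hpr := AddSubgroup.card_eq_card_quotient_mul_card_addSubgroup T.range
      rw [hreq, GaloisField.card p a ha0.ne'] at hpr
      refine Nat.eq_of_mul_eq_mul_right (pow_pos hp.pos h) ?_
      rw [← pow_add, ← hah, ← hpr]

end Cfsg.Agent.SchmidtUniv
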