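import Cfsg.Agent.Lib.Small.SchmidtUniversal.Structure

/-!
# Universality of the Schmidt group
-/

universe u

namespace Cfsg.Agent.SchmidtUniv

open scoped _root_.Classical

section Lift

variable {X : Type u} [Group X] [Finite X] {p q r : ℕ} [Fact p.Prime] [Fact q.Prime]
  {F : Type} [Field F] [Finite F] {ζ : F} {σ : F →+* F} {θ : F} {N : AddSubgroup F}

/-- the fibre product construction: `P0` maps equivariantly onto `P` -/
theorem exists_phi0 (hF : IsPar.{u} p q ζ σ θ N) (hζ : ζ ≠ 0) (hζ1 : ζ ≠ 1) {P : Subgroup X}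
    [P.Normal] (y : X) (π : ↥P →* Multiplicative F) (hπ : Function.Surjective π)
    (hπy : ∀ x x' : ↥P, (x' : X) = y * x * y⁻¹ → (π x').toAdd = ζ * (π x).toAdd)
    (hker : ∀ z : ↥P, π z = 1 → y * (z : X) * y⁻¹ = z ∧ ∀ w : ↥P, w * z = z * w) :
    ∃ φ : P0 σ θ N →* ↥P, (∀ u, π (φ u) = Multiplicative.ofAdd u.x) ∧
      ∀ u, (φ (tau hF hζ u) : X) = y * φ u * y⁻¹ := by
  set cj : MulAut ↥P := MulAut.conjNormal y with hcj
  have hcjc : ∀ x : ↥P, (cj x : X) = y * x * y⁻¹ := fun x => MulAut.conjNormal_apply y x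
  have hcjfix : ∀ z : ↥P, π z = 1 → cj z = z := fun z hz =>
    Subtype.ext (by rw [hcjc]; exact (hker z hz).1)
  have hπcj : ∀ x, (π (cj x)).toAdd = ζ * (π x).toAdd := fun x => hπy x _ (hcjc x)
  -- the commutator map
  letI : CommGroup ↥π.ker :=
    { (inferInstance : Group ↥π.ker) with
      mul_comm := fun a b => Subtype.ext ((hker b.1 b.2).2 a.1) }
  let s : F → ↥P := fun a => Function.surjInv hπ (Multiplicative.ofAdd a)
  have hs : ∀ a, π (s a) = Multiplicative.ofAdd a := fun a => Function.surjInv_eq hπ _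
  let cm : ↥P → ↥P → ↥π.ker := fun a b => ⟨a * b * a⁻¹ * b⁻¹, by
    rw [MonoidHom.mem_ker, map_mul, map_mul, map_mul, map_inv, map_inv]; simp⟩
  have hcmc : ∀ a b, (cm a b : ↥P) = a * b * a⁻¹ * b⁻¹ := fun a b => rfl
  have hcml : ∀ a a' b, cm (a * a') b = cm a b * cm a' b := by
    intro a a' b
    refine Subtype.ext ?_
    rw [Subgroup.coe_mul, hcmc (a * a'), hcmc a b]
    calc a * a' * b * (a * a')⁻¹ * b⁻¹
        = a * ((cm a' b : ↥P)) * (b * a⁻¹ * b⁻¹) := by rw [hcmc]; group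
      _ = (cm a' b : ↥P) * a * (b * a⁻¹ * b⁻¹) := by rw [(hker _ (cm a' b).2).2 a]
      _ = (cm a' b : ↥P) * (a * b * a⁻¹ * b⁻¹) := by group
      _ = a * b * a⁻¹ * b⁻¹ * (cm a' b : ↥P) := by rw [(hker _ (cm a' b).2).2]
  have hcminv : ∀ a b, cm b a = (cm a b)⁻¹ := by
    intro a b
    refine Subtype.ext ?_
    rw [Subgroup.coe_inv, hcmc, hcmc]; group
  have hcmr : ∀ a b b', cm a (b * b') = cm a b * cm a b' := by
    intro a b b'
    rw [hcminv (b * b') a, hcminv b a, hcminv b' a, hcml, mul_inv]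
  have hcmker : ∀ a z, π z = 1 → cm a z = 1 := fun a z hz => Subtype.ext (by
    rw [hcmc, (hker z hz).2 a]; group; rfl)
  have hcmcongr : ∀ a a' b b', π a = π a' → π b = π b' → cm a b = cm a' b' := by
    intro a a' b b' ha hb
    have h1 : π (a'⁻¹ * a) = 1 := by rw [map_mul, map_inv, ha, inv_mul_cancel]
    have h2 : π (b'⁻¹ * b) = 1 := by rw [map_mul, map_inv, hb, inv_mul_cancel]
    have e1 : cm a b = cm a' b := by
      conv_lhs => rw [show a = a' * (a'⁻¹ * a) by group]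
      rw [hcml, hcminv b (a'⁻¹ * a), hcmker b _ h1, inv_one, mul_one]
    rw [e1]
    conv_lhs => rw [show b = b' * (b'⁻¹ * b) by group]
    rw [hcmr, hcmker a' _ h2, mul_one]
  have hsadd : ∀ a a', π (s (a + a')) = π (s a * s a') := fun a a' => by
    rw [map_mul, hs, hs, hs]; rfl
  let b : F →+ F →+ Additive ↥π.ker := AddMonoidHom.mk' (fun a => AddMonoidHom.mk'
      (fun c => Additive.ofMul (cm (s a) (s c))) (fun c c' => by
        rw [← ofMul_mul, ← hcmr, hcmcongr (s a) (s a) _ _ rfl (hsadd c c')]))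
    (fun a a' => AddMonoidHom.ext fun c => by
      show Additive.ofMul (cm (s (a + a')) (s c)) =
        Additive.ofMul (cm (s a) (s c)) + Additive.ofMul (cm (s a') (s c))
      rw [← ofMul_mul, ← hcml, hcmcongr _ _ (s c) (s c) (hsadd a a') rfl])
  have hbapply : ∀ a c, b a c = Additive.ofMul (cm (s a) (s c)) := fun _ _ => rfl
  have hbalt : ∀ a, b a a = 0 := fun a => by
    rw [hbapply]
    have : cm (s a) (s a) = 1 := Subtype.ext (by rw [hcmc]; group; rfl)
    rw [this]; rfl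
  have hbinv : ∀ a c, b (ζ * a) (ζ * c) = b a c := by
    intro a c
    rw [hbapply, hbapply]
    have h1 : ∀ e, π (s (ζ * e)) = π (cj (s e)) := fun e => by
      rw [hs]
      refine Multiplicative.toAdd.injective ?_
      rw [toAdd_ofAdd, hπcj, hs, toAdd_ofAdd]
    rw [hcmcongr _ _ _ _ (h1 a) (h1 c)]
    congr 1
    refine Subtype.ext ?_
    rw [hcmc, ← map_inv, ← map_inv, ← map_mul, ← map_mul, ← map_mul, ← hcmc]
    exact hcjfix _ (cm _ _).2
  obtain ⟨hrep, hkill⟩ := hF.rep (Additive ↥π.ker) b hbalt hbinv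
  let g1 : Multiplicative F →* ↥P :=
    π.ker.subtype.comp (AddMonoidHom.toMultiplicativeLeft (b 1))
  have hg1 : ∀ c, g1 c = (Additive.toMul (b 1 c.toAdd) : ↥π.ker) := fun c => rfl
  have hg1ker : ∀ c, π (g1 c) = 1 := fun c => (Additive.toMul (b 1 c.toAdd) : ↥π.ker).2
  have hcm_g1 : ∀ a c : ↥P, (cm a c : ↥P) = g1 (Multiplicative.ofAdd (σ (π a).toAdd * (π c).toAdd)) := by
    intro a c
    rw [hg1, toAdd_ofAdd, ← hrep, hbapply, toMul_ofMul,
      hcmcongr (s (π a).toAdd) a (s (π c).toAdd) c (by rw [hs, ofAdd_toAdd]) (by rw [hs, ofAdd_toAdd])]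
  -- the graph
  let zi : Multiplicative F →* P0 σ θ N :=
    { toFun := fun c => ⟨0, QuotientAddGroup.mk c.toAdd⟩
      map_one' := P0.ext rfl rfl
      map_mul' := fun c c' => P0.ext (by simp [mul_x]) (by simp [mul_z, cc_zero_left]) }
  let Γhom : Multiplicative F →* P0 σ θ N × ↥P := zi.prod g1
  set Γ := Γhom.range with hΓ
  have hzicentral : ∀ c (u : P0 σ θ N), u * zi c = zi c * u := fun c u =>
    P0.ext (add_comm _ _) (by
      show u.z + _ + cc σ θ N u.x 0 = _ + u.z + cc σ θ N 0 u.x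
      rw [cc_zero_left, cc_zero_right, add_comm u.z])
  have hΓcentral : ∀ γ ∈ Γ, ∀ u : P0 σ θ N × ↥P, u * γ = γ * u := by
    rintro _ ⟨c, rfl⟩ u
    exact Prod.ext (hzicentral c u.1) ((hker _ (hg1ker c)).2 u.2)
  haveI : Γ.Normal := ⟨fun γ hγ u => by rw [hΓcentral γ hγ u, mul_inv_cancel_right]; exact hγ⟩
  let τ2 : MulAut (P0 σ θ N × ↥P) := MulEquiv.prodCongr (tau hF hζ) cj
  have hτ2 : ∀ u, τ2 u = (tau hF hζ u.1, cj u.2) := fun u => rfl
  have hτΓ : ∀ γ ∈ Γ, τ2 γ = γ := by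
    rintro _ ⟨c, rfl⟩
    exact Prod.ext (P0.ext (mul_zero ζ) rfl) (hcjfix _ (hg1ker c))
  set Y : Subgroup (P0 σ θ N × ↥P) :=
    (projX.comp (MonoidHom.fst _ _)).eqLocus (π.comp (MonoidHom.snd _ _)) with hY
  have hmemY : ∀ u, u ∈ Y ↔ (Multiplicative.ofAdd u.1.x) = π u.2 := fun u => Iff.rfl
  have hΓY : Γ ≤ Y := by
    rintro _ ⟨c, rfl⟩
    rw [hmemY]; exact (hg1ker c).symm
  have hτY : ∀ u ∈ Y, τ2 u ∈ Y := by
    intro u hu
    rw [hmemY] at hu ⊢
    refine Multiplicative.toAdd.injective ?_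
    show ζ * u.1.x = (π (cj u.2)).toAdd
    rw [hπcj, ← hu, toAdd_ofAdd]
  have hYcomm : ∀ u ∈ Y, ∀ w ∈ Y,
      (QuotientGroup.mk (u * w) : (P0 σ θ N × ↥P) ⧸ Γ) = QuotientGroup.mk (w * u) := by
    intro u hu w hw
    rw [hmemY] at hu hw
    refine QuotientGroup.eq.2 ?_
    have h1 : u * w = Γhom (Multiplicative.ofAdd (σ u.1.x * w.1.x)) * (w * u) := by
      refine Prod.ext (comm_eq hF u.1 w.1) ?_
      show u.2 * w.2 = g1 _ * (w.2 * u.2)
      rw [show σ u.1.x * w.1.x = σ (π u.2).toAdd * (π w.2).toAdd by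
        rw [← hu, ← hw, toAdd_ofAdd, toAdd_ofAdd], ← hcm_g1, hcmc]
      group
    rw [h1]
    have hγ : Γhom (Multiplicative.ofAdd (σ u.1.x * w.1.x)) ∈ Γ := ⟨_, rfl⟩
    rw [← hΓcentral _ hγ (w * u), mul_inv_rev, inv_mul_cancel_right]
    exact inv_mem hγ
  let δ : ↥Y →* (P0 σ θ N × ↥P) ⧸ Γ :=
    MonoidHom.mk' (fun w => QuotientGroup.mk ((w : P0 σ θ N × ↥P)⁻¹ * τ2 w)) (fun v w => by
      have hA : (v : P0 σ θ N × ↥P)⁻¹ * τ2 v ∈ Y := Y.mul_mem (inv_mem v.2) (hτY _ v.2)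
      rw [Subgroup.coe_mul, map_mul]
      rw [show ((v : P0 σ θ N × ↥P) * w)⁻¹ * (τ2 v * τ2 w) =
        ((w : P0 σ θ N × ↥P)⁻¹ * ((v : P0 σ θ N × ↥P)⁻¹ * τ2 v)) * τ2 w by group,
        QuotientGroup.mk_mul, hYcomm _ (inv_mem w.2) _ hA, ← QuotientGroup.mk_mul,
        ← QuotientGroup.mk_mul]
      congr 1
      group)
  set H := δ.range.comap (QuotientGroup.mk' Γ) with hH
  have hmemH : ∀ u, u ∈ H ↔ ∃ w ∈ Y, ∃ γ ∈ Γ, u = w⁻¹ * τ2 w * γ := by
    intro u
    constructor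
    · rintro ⟨⟨w, hw⟩, hwu⟩
      exact ⟨w, hw, (w⁻¹ * τ2 w)⁻¹ * u, QuotientGroup.eq.1 hwu, by group⟩
    · rintro ⟨w, hw, γ, hγ, rfl⟩
      refine ⟨⟨w, hw⟩, ?_⟩
      show QuotientGroup.mk (w⁻¹ * τ2 w) = QuotientGroup.mk (w⁻¹ * τ2 w * γ)
      rw [QuotientGroup.eq, inv_mul_cancel_left]; exact hγ
  have hΓH : Γ ≤ H := fun γ hγ => (hmemH γ).2 ⟨1, Y.one_mem, γ, hγ, by simp⟩
  have hHY : H ≤ Y := by
    intro u hu
    obtain ⟨w, hw, γ, hγ, rfl⟩ := (hmemH u).1 hu
    exact Y.mul_mem (Y.mul_mem (inv_mem hw) (hτY w hw)) (hΓY hγ)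
  have hτH : ∀ u ∈ H, τ2 u ∈ H := by
    intro u hu
    obtain ⟨w, hw, γ, hγ, rfl⟩ := (hmemH u).1 hu
    exact (hmemH _).2 ⟨τ2 w, hτY w hw, γ, hγ, by rw [map_mul, map_mul, map_inv, hτΓ γ hγ]⟩
  -- the first projection is bijective on `H`
  let fstH : ↥H →* P0 σ θ N := (MonoidHom.fst _ _).comp H.subtype
  have hinj : Function.Injective fstH := by
    rw [injective_iff_map_eq_one]
    rintro ⟨u, hu⟩ (h1 : u.1 = 1)
    obtain ⟨w, hw, γ, ⟨c, rfl⟩, rfl⟩ := (hmemH u).1 hu
    have hx : w.1.x = 0 := by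
      have h2 := congrArg P0.x h1
      simp only [Prod.fst_mul, Prod.fst_inv, mul_x, inv_x, one_x] at h2
      change -w.1.x + ζ * w.1.x + 0 = 0 at h2
      have h3 : (ζ - 1) * w.1.x = 0 := by linear_combination h2
      exact (mul_eq_zero.1 h3).resolve_left (sub_ne_zero.2 hζ1)
    have hτw : τ2 w = w := by
      refine Prod.ext (P0.ext ?_ rfl) (hcjfix _ ?_)
      · show ζ * w.1.x = w.1.x
        rw [hx, mul_zero]
      · rw [← (hmemY w).1 hw, hx]; rfl
    refine Subtype.ext ?_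
    show w⁻¹ * τ2 w * Γhom c = 1
    rw [hτw, inv_mul_cancel, one_mul]
    simp only [hτw, inv_mul_cancel, one_mul] at h1
    have h4 : c.toAdd ∈ N := (QuotientAddGroup.eq_zero_iff _).1 (congrArg P0.z h1)
    refine Prod.ext h1 ?_
    show g1 c = 1
    rw [hg1, hkill _ h4]; rfl
  have hsurj : Function.Surjective fstH := by
    intro v
    set a := (ζ - 1)⁻¹ * v.x
    obtain ⟨c, hc⟩ := hπ (Multiplicative.ofAdd a)
    set w : P0 σ θ N × ↥P := (⟨a, 0⟩, c)
    have hw : w ∈ Y := (hmemY w).2 hc.symm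
    set u0 := w⁻¹ * τ2 w
    have hx0 : u0.1.x = v.x := by
      show -a + ζ * a = v.x
      rw [← mul_inv_cancel_left₀ (sub_ne_zero.2 hζ1) v.x]; ring
    obtain ⟨d, hd⟩ := QuotientAddGroup.mk_surjective (v.z - u0.1.z)
    refine ⟨⟨u0 * Γhom (Multiplicative.ofAdd d), (hmemH _).2 ⟨w, hw, _, ⟨_, rfl⟩, rfl⟩⟩, ?_⟩
    show u0.1 * zi (Multiplicative.ofAdd d) = v
    refine P0.ext (by show u0.1.x + 0 = v.x; rw [add_zero, hx0]) ?_
    show u0.1.z + (QuotientAddGroup.mk d : F ⧸ N) + cc σ θ N u0.1.x 0 = v.z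
    rw [cc_zero_right, hd]; abel
  let E := MulEquiv.ofBijective fstH ⟨hinj, hsurj⟩
  refine ⟨((MonoidHom.snd _ _).comp H.subtype).comp E.symm.toMonoidHom, fun u => ?_, fun u => ?_⟩
  · have h1 : ((E.symm u : P0 σ θ N × ↥P)).1 = u := E.apply_symm_apply u
    have h2 := (hmemY _).1 (hHY (E.symm u).2)
    rw [h1] at h2
    exact h2.symm
  · have h1 : ((E.symm u : P0 σ θ N × ↥P)).1 = u := E.apply_symm_apply u
    have h2 : E.symm (tau hF hζ u) = ⟨τ2 (E.symm u : P0 σ θ N × ↥P), hτH _ (E.symm u).2⟩ := by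
      apply E.injective
      rw [E.apply_symm_apply]
      show tau hF hζ u = tau hF hζ (E.symm u : P0 σ θ N × ↥P).1
      rw [h1]
    show ((E.symm (tau hF hζ u) : P0 σ θ N × ↥P).2 : X) = _
    rw [h2]
    exact hcjc _

end Lift

/-- hom from `ZMod n` given by an element -/
noncomputable def zhom {M : Type*} [Group M] (n : ℕ) (m : M) (h : m ^ n = 1) :
    Multiplicative (ZMod n) →* M :=
  AddMonoidHom.toMultiplicativeLeft (ZMod.lift n
    ⟨zmultiplesHom (Additive M) (Additive.ofMul m), by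
      rw [zmultiplesHom_apply, natCast_zsmul, ← ofMul_pow, h]; rfl⟩)

theorem zhom_natCast {M : Type*} [Group M] (n : ℕ) (m : M) (h : m ^ n = 1) (i : ℕ) :
    zhom n m h (Multiplicative.ofAdd (i : ZMod n)) = m ^ i := by
  have h1 : ((i : ZMod n)) = ((i : ℤ) : ZMod n) := (Int.cast_natCast i).symm
  show Additive.toMul (ZMod.lift n _ (i : ZMod n)) = m ^ i
  rw [h1, ZMod.lift_coe, zmultiplesHom_apply, natCast_zsmul, ← ofMul_pow, toMul_ofMul]

theorem exists_natCast {n : ℕ} [NeZero n] (c : Multiplicative (ZMod n)) :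
    ∃ i : ℕ, c = Multiplicative.ofAdd (i : ZMod n) :=
  ⟨c.toAdd.val, by rw [ZMod.natCast_zmod_val, ofAdd_toAdd]⟩

/-- transport of minimality along an isomorphism -/
theorem minimal_of_equiv {p : ℕ} [Fact p.Prime] {G : Type*} {G' : Type*} [Group G] [Group G']
    [Finite G] [Finite G'] (e : G' ≃* G)
    (h : ¬ Cfsg.HasNormalPComplement p G ∧
      ∀ K : Subgroup G, K ≠ ⊤ → Cfsg.HasNormalPComplement p ↥K) :
    ¬ Cfsg.HasNormalPComplement p G' ∧
      ∀ K : Subgroup G', K ≠ ⊤ → Cfsg.HasNormalPComplement p ↥K := by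
  refine ⟨fun h' => h.1 (Fusion.hnpc_of_equiv e h'), fun K hK => ?_⟩
  refine Fusion.hnpc_of_equiv (e.subgroupMap K).symm (h.2 _ fun ht => hK ?_)
  refine Subgroup.map_injective (f := e.toMonoidHom) e.injective ?_
  change K.map e.toMonoidHom = ⊤ at ht
  rw [ht, Subgroup.map_top_of_surjective e.toMonoidHom e.surjective]

theorem exists_universal (p q r : ℕ) [Fact p.Prime] [Fact q.Prime] (hpq : p ≠ q) (hr : 1 ≤ r)
    (a a₀ : ℕ) (ha : a = orderOf (p : ZMod q)) (ha₀ : a₀ = if a % 2 = 1 then a else 3 * a / 2) :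
    ∃ (G₀ : Type u) (_ : Group G₀) (_ : Finite G₀),
      (¬ Cfsg.HasNormalPComplement p G₀ ∧
        ∀ K : Subgroup G₀, K ≠ ⊤ → Cfsg.HasNormalPComplement p ↥K) ∧
      Nat.card G₀ = p ^ a₀ * q ^ r ∧
      ∀ (X : Type u) [Group X] [Finite X], (¬ Cfsg.HasNormalPComplement p X ∧
          ∀ K : Subgroup X, K ≠ ⊤ → Cfsg.HasNormalPComplement p ↥K) →
        (∃ t : ℕ, Nat.card X = p ^ t * q ^ r) →
        ∃ φ : G₀ →* X, Function.Surjective φ ∧ φ.ker ≤ Subgroup.center G₀ := by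
  have hp := (Fact.out : p.Prime)
  have hq := (Fact.out : q.Prime)
  obtain ⟨F, hFld, ζ, σ, θ, N, hfin, hF, hcF, hcW⟩ := exists_par.{u} p q a hpq ha
  have hζ : ζ ≠ 0 := by
    intro h
    have := hF.ord
    rw [h, orderOf_zero] at this
    exact hq.ne_zero this.symm
  have hζ1 : ζ ≠ 1 := by
    intro h
    have := hF.ord
    rw [h, orderOf_one] at this
    exact hq.one_lt.ne this
  set n := q ^ r with hn
  haveI : NeZero n := ⟨pow_ne_zero _ hq.ne_zero⟩
  have hτn : (tau hF hζ : MulAut (P0 σ θ N)) ^ n = 1 := by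
    rw [hn, ← Nat.sub_add_cancel hr, pow_succ', pow_mul, tau_pow_q hF hζ, one_pow]
  set act := zhom n (tau hF hζ : MulAut (P0 σ θ N)) hτn with hact
  set G := P0 σ θ N ⋊[act] Multiplicative (ZMod n) with hG
  haveI : Finite G := Finite.of_equiv _ SemidirectProduct.equivProd.symm
  set gen : Multiplicative (ZMod n) := Multiplicative.ofAdd ((1 : ℕ) : ZMod n) with hgen
  have hgenpow : ∀ i : ℕ, gen ^ i = Multiplicative.ofAdd (i : ZMod n) := fun i => by
    rw [hgen, ← ofAdd_nsmul, nsmul_eq_mul, Nat.cast_one, mul_one]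
  have hactgen : ∀ i : ℕ, act (gen ^ i) = (tau hF hζ : MulAut (P0 σ θ N)) ^ i := fun i => by
    rw [hgenpow, hact, zhom_natCast]
  set y0 : G := SemidirectProduct.inr gen with hy0
  set PG : Subgroup G := (SemidirectProduct.inl : P0 σ θ N →* G).range with hPG
  have hconj : ∀ (i : ℕ) u, y0 ^ i * SemidirectProduct.inl u * (y0 ^ i)⁻¹ =
      SemidirectProduct.inl (⟨ζ ^ i * u.x, u.z⟩ : P0 σ θ N) := by
    intro i u
    rw [hy0, ← map_pow, ← map_inv, ← SemidirectProduct.inl_aut, hactgen, tau_pow_apply]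
  have hconj1 : ∀ u, y0 * SemidirectProduct.inl u * y0⁻¹ =
      SemidirectProduct.inl (⟨ζ * u.x, u.z⟩ : P0 σ θ N) := fun u => by simpa using hconj 1 u
  have hdata : Data p q r PG y0 := by
    refine ⟨?_, ?_, ?_, ?_, ?_, ?_, ?_⟩
    · rw [hPG, SemidirectProduct.range_inl_eq_ker_rightHom]; infer_instance
    · exact (isPGroup hF).of_surjective (SemidirectProduct.inl : P0 σ θ N →* G).rangeRestrict
        (MonoidHom.rangeRestrict_surjective _)
    · rw [hy0, orderOf_injective _ SemidirectProduct.inr_injective, hgen, orderOf_ofAdd_eq_addOrderOf,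
        Nat.cast_one, ZMod.addOrderOf_one]
    · refine eq_top_iff.2 fun g _ => ?_
      rw [← SemidirectProduct.inl_left_mul_inr_right g]
      obtain ⟨i, hi⟩ := exists_natCast g.right
      refine Subgroup.mul_mem _ (Subgroup.mem_sup_left ⟨_, rfl⟩) (Subgroup.mem_sup_right ?_)
      rw [hi, ← hgenpow, map_pow]
      exact Subgroup.pow_mem _ (Subgroup.mem_zpowers _) i
    · refine ⟨SemidirectProduct.inl ⟨1, 0⟩, ⟨_, rfl⟩, fun h => hζ1 ?_⟩
      rw [hconj1] at h
      have := congrArg P0.x (SemidirectProduct.inl_injective h)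
      simpa using this
    · rintro _ ⟨u, rfl⟩
      rw [hconj q]
      congr 1
      refine P0.ext ?_ rfl
      show ζ ^ q * u.x = u.x
      rw [← hF.ord, pow_orderOf_eq_one, one_mul]
    · intro U hUP hne hinv w hw
      obtain ⟨u, rfl⟩ := hUP hw
      set U0 := U.comap (SemidirectProduct.inl : P0 σ θ N →* G) with hU0
      let S : AddSubgroup F :=
        { carrier := {c | ∃ v ∈ U0, v.x = c}
          zero_mem' := ⟨1, U0.one_mem, rfl⟩
          add_mem' := by
            rintro _ _ ⟨v, hv, rfl⟩ ⟨v', hv', rfl⟩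
            exact ⟨v * v', U0.mul_mem hv hv', rfl⟩
          neg_mem' := by rintro _ ⟨v, hv, rfl⟩; exact ⟨v⁻¹, U0.inv_mem hv, rfl⟩ }
      by_cases hux : u.x = 0
      · rw [hconj1]
        congr 1
        exact P0.ext (by show ζ * u.x = u.x; rw [hux, mul_zero]) rfl
      · exfalso
        refine hne (le_antisymm hUP ?_)
        have hS : ∀ c, c ∈ S := by
          intro c
          have h1 := hF.gen (S.comap (AddMonoidHom.mulRight u.x))
            (by
              rw [AddSubgroup.mem_comap, AddMonoidHom.mulRight_apply, one_mul]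
              exact ⟨u, hw, rfl⟩)
            (fun e he => by
              rw [AddSubgroup.mem_comap, AddMonoidHom.mulRight_apply] at he ⊢
              obtain ⟨v, hv, hvx⟩ := he
              refine ⟨⟨ζ * v.x, v.z⟩, ?_, by show ζ * v.x = _; rw [hvx, mul_assoc]⟩
              rw [hU0, Subgroup.mem_comap] at hv ⊢
              rw [← hconj1]; exact hinv _ hv)
          have h2 : c * u.x⁻¹ ∈ S.comap (AddMonoidHom.mulRight u.x) := by rw [h1]; trivial
          rw [AddSubgroup.mem_comap, AddMonoidHom.mulRight_apply, inv_mul_cancel_right₀ hux] at h2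
          exact h2
        have hW : ∀ c : F, (⟨0, QuotientAddGroup.mk c⟩ : P0 σ θ N) ∈ U0 := by
          intro c
          obtain ⟨v1, hv1, hx1⟩ := hS 1
          obtain ⟨v2, hv2, hx2⟩ := hS c
          have h1 := comm_eq hF v1 v2
          rw [hx1, hx2, map_one, one_mul] at h1
          have h2 : (⟨0, QuotientAddGroup.mk c⟩ : P0 σ θ N) = v1 * v2 * (v2 * v1)⁻¹ := by
            rw [h1, mul_inv_cancel_right]
          rw [h2]
          exact U0.mul_mem (U0.mul_mem hv1 hv2) (U0.inv_mem (U0.mul_mem hv2 hv1))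
        rintro _ ⟨v, rfl⟩
        obtain ⟨v', hv', hx'⟩ := hS v.x
        obtain ⟨d, hd⟩ := QuotientAddGroup.mk_surjective (v.z - v'.z)
        have h3 : v = v' * ⟨0, QuotientAddGroup.mk d⟩ := P0.ext
          (by rw [mul_x, hx', add_zero])
          (by rw [mul_z, cc_zero_right, add_zero, hd]; exact (add_sub_cancel _ _).symm)
        have h4 : v ∈ U0 := by rw [h3]; exact U0.mul_mem hv' (hW d)
        exact h4
  refine ⟨ULift.{u} G, inferInstance, inferInstance,
    minimal_of_equiv MulEquiv.ulift (minimal_of_data hpq hdata), ?_, ?_⟩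
  · rw [Nat.card_congr Equiv.ulift, Nat.card_congr SemidirectProduct.equivProd, Nat.card_prod,
      card_P0, hcF, hcW, Nat.card_congr Multiplicative.toAdd, Nat.card_zmod, ha₀, ← pow_add, hn]
    congr 2
    split_ifs <;> omega
  intro X _ _ hX hXc
  obtain ⟨t, ht⟩ := hXc
  obtain ⟨P, g, hd⟩ := exists_data hpq hX.1 hX.2 ht
  obtain ⟨k, π, hk, hπ, hπy, hker⟩ := exists_coord hpq hd hF
  have hd' := hd.change hk
  haveI := hd.normal
  set y := g ^ k with hy
  have hker' : ∀ z : ↥P, π z = 1 → y * (z : X) * y⁻¹ = z ∧ ∀ w : ↥P, w * z = z * w := by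
    intro z hz
    refine ⟨?_, (hker z hz).2⟩
    rw [hy]
    clear hy hd' hπy hk
    induction k with
    | zero => simp
    | succ k ih =>
      rw [pow_succ', show g * g ^ k * (z : X) * (g * g ^ k)⁻¹ = g * (g ^ k * z * (g ^ k)⁻¹) * g⁻¹
        by group, ih, (hker z hz).1]
  obtain ⟨φ0, hφπ, hφτ⟩ := exists_phi0 hF hζ hζ1 y π hπ hπy hker'
  have hyn : y ^ n = 1 := by rw [hn, ← hd'.ord]; exact pow_orderOf_eq_one y
  let f : P0 σ θ N →* X := P.subtype.comp φ0
  let h : Multiplicative (ZMod n) →* X := zhom n y hyn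
  have hpow : ∀ (i : ℕ) u, f (((tau hF hζ : MulAut (P0 σ θ N)) ^ i) u) =
      y ^ i * f u * (y ^ i)⁻¹ := by
    intro i
    induction i with
    | zero => intro u; simp
    | succ i ih =>
      intro u
      rw [pow_succ', MulAut.mul_apply]
      show (φ0 (tau hF hζ _) : X) = _
      rw [hφτ]
      show y * f _ * y⁻¹ = _
      rw [ih, pow_succ']; group
  let Φ : G →* X := SemidirectProduct.lift f h (fun c => by
    refine MonoidHom.ext fun u => ?_
    obtain ⟨i, rfl⟩ := exists_natCast c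
    show f (act (Multiplicative.ofAdd (i : ZMod n)) u) =
      MulAut.conj (zhom n y hyn (Multiplicative.ofAdd (i : ZMod n))) (f u)
    rw [hact, zhom_natCast, zhom_natCast, hpow, MulAut.conj_apply])
  have hφsurj : Function.Surjective φ0 := by
    rw [← MonoidHom.range_eq_top]
    by_contra hne
    obtain ⟨x, hx, hxy⟩ := hd'.moves
    have hsm := hd'.small (φ0.range.map P.subtype) (Subgroup.map_subtype_le _) (fun he => hne (by
        refine Subgroup.map_injective P.subtype_injective ?_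
        rw [he, ← MonoidHom.range_eq_map, Subgroup.range_subtype]))
      (by
        rintro _ ⟨_, ⟨u, rfl⟩, rfl⟩
        exact ⟨φ0 (tau hF hζ u), ⟨_, rfl⟩, hφτ u⟩)
    have h1 := hsm (φ0 ⟨1, 0⟩ : X) ⟨_, ⟨_, rfl⟩, rfl⟩
    have h2 := hπy (φ0 ⟨1, 0⟩) (φ0 ⟨1, 0⟩) h1.symm
    rw [hφπ, toAdd_ofAdd, mul_one] at h2
    exact hζ1 h2.symm
  refine ⟨Φ.comp MulEquiv.ulift.toMonoidHom, ?_, ?_⟩
  · suffices hΦ : Function.Surjective Φ by
      intro x
      obtain ⟨w, hw⟩ := hΦ x
      exact ⟨ULift.up w, hw⟩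
    intro x
    obtain ⟨v, hv, i, rfl⟩ := exists_mul_zpow hd' x
    obtain ⟨u, hu⟩ := hφsurj ⟨v, hv⟩
    refine ⟨SemidirectProduct.inl u * SemidirectProduct.inr gen ^ i, ?_⟩
    rw [map_mul, map_zpow, SemidirectProduct.lift_inl, SemidirectProduct.lift_inr]
    show (φ0 u : X) * zhom n y hyn (Multiplicative.ofAdd ((1 : ℕ) : ZMod n)) ^ i = v * y ^ i
    rw [zhom_natCast, pow_one, hu]
  · intro w hw
    rw [MonoidHom.mem_ker, MonoidHom.comp_apply] at hw
    rw [Subgroup.mem_center_iff]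
    suffices hc : MulEquiv.ulift w ∈ Subgroup.center G by
      intro z
      refine MulEquiv.ulift.injective ?_
      rw [map_mul, map_mul]
      exact Subgroup.mem_center_iff.1 hc _
    generalize hv : MulEquiv.ulift.toMonoidHom w = v at hw
    have hv' : MulEquiv.ulift w = v := hv
    rw [hv']
    obtain ⟨i, hi⟩ := exists_natCast v.right
    rw [← SemidirectProduct.inl_left_mul_inr_right v, map_mul, SemidirectProduct.lift_inl,
      SemidirectProduct.lift_inr, hi] at hw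
    change (φ0 v.left : X) * zhom n y hyn _ = 1 at hw
    rw [zhom_natCast] at hw
    have hyi : y ^ i ∈ P := by
      rw [eq_inv_of_mul_eq_one_right hw]; exact inv_mem (φ0 v.left).2
    have hcop : Nat.Coprime p q := (Nat.coprime_primes hp hq).2 hpq
    have hyi1 : y ^ i = 1 := by
      obtain ⟨e, he⟩ := hd.isP ⟨_, hyi⟩
      have h1 : (y ^ i) ^ (p ^ e) = 1 := congrArg Subtype.val he
      have h2 : (y ^ i) ^ (q ^ r) = 1 := by
        rw [← pow_mul, mul_comm, pow_mul, ← hd'.ord, pow_orderOf_eq_one, one_pow]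
      have h3 := pow_gcd_eq_one.2 ⟨h1, h2⟩
      rwa [(hcop.pow e r : Nat.Coprime (p ^ e) (q ^ r)), pow_one] at h3
    have hr0 : v.right = 1 := by
      have h1 : q ^ r ∣ i := hd'.ord ▸ orderOf_dvd_of_pow_eq_one hyi1
      rw [hi, (ZMod.natCast_eq_zero_iff i n).2 h1]; rfl
    have hl : v.left.x = 0 := by
      rw [hyi1, mul_one] at hw
      have h1 : φ0 v.left = 1 := Subtype.ext hw
      have h2 := hφπ v.left
      rw [h1, map_one] at h2
      exact congrArg Multiplicative.toAdd h2.symm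
    rw [Subgroup.mem_center_iff]
    intro z
    refine SemidirectProduct.ext ?_ ?_
    · rw [SemidirectProduct.mul_left, SemidirectProduct.mul_left, hr0, map_one, MulAut.one_apply]
      obtain ⟨j, hj⟩ := exists_natCast z.right
      rw [hj, ← hgenpow, hactgen, tau_pow_apply]
      refine P0.ext ?_ ?_
      · simp only [mul_x, hl, mul_zero, add_zero, zero_add]
      · simp only [mul_z, hl, mul_zero, cc_zero_left, cc_zero_right, add_zero]
        rw [add_comm]
    · rw [SemidirectProduct.mul_right, SemidirectProduct.mul_right, hr0, one_mul, mul_one]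

end Cfsg.Agent.SchmidtUniv
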