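import Cfsg.Prelude.Def_Transfer
import Cfsg.Agent.Lib.Fusion.NPC
import Cfsg.Agent.Lib.Small.SchmidtUniversal.Field

/-!
# The universal Schmidt group and a recognition lemma for minimal non-`p`-nilpotent groups
-/

universe u v

namespace Cfsg.Agent.SchmidtUniv

open scoped _root_.Classical

/-- data of a Schmidt group: `P` normal `p`-subgroup, `y` of order `q ^ r` -/
structure Data {X : Type u} [Group X] (p q r : ℕ) (P : Subgroup X) (y : X) : Prop where
  normal : P.Normal
  isP : IsPGroup p ↥P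
  ord : orderOf y = q ^ r
  top : P ⊔ Subgroup.zpowers y = ⊤
  moves : ∃ x ∈ P, y * x * y⁻¹ ≠ x
  qfix : ∀ x ∈ P, y ^ q * x * (y ^ q)⁻¹ = x
  small : ∀ U : Subgroup X, U ≤ P → U ≠ P → (∀ x ∈ U, y * x * y⁻¹ ∈ U) →
    ∀ x ∈ U, y * x * y⁻¹ = x

section Recognition

variable {X : Type u} [Group X] [Finite X] {p q r : ℕ} [Fact p.Prime] [Fact q.Prime]
  {P : Subgroup X} {y : X}

theorem exists_mul_zpow (hd : Data p q r P y) (x : X) :
    ∃ u ∈ P, ∃ n : ℤ, x = u * y ^ n := by
  haveI := hd.normal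
  have hx : x ∈ P ⊔ Subgroup.zpowers y := by rw [hd.top]; trivial
  obtain ⟨u, hu, v, ⟨n, rfl⟩, rfl⟩ := Subgroup.mem_sup_of_normal_left.1 hx
  exact ⟨u, hu, n, rfl⟩

/-- groups with Schmidt data are minimal non-`p`-nilpotent -/
theorem minimal_of_data (hpq : p ≠ q) (hd : Data p q r P y) :
    ¬ Cfsg.HasNormalPComplement p X ∧
      ∀ K : Subgroup X, K ≠ ⊤ → Cfsg.HasNormalPComplement p ↥K := by
  haveI := hd.normal
  have hp := (Fact.out : p.Prime)
  have hq := (Fact.out : q.Prime)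
  have hcop : Nat.Coprime p q := (Nat.coprime_primes hp hq).2 hpq
  refine ⟨fun h => ?_, fun K hK => ?_⟩
  · obtain ⟨x, hx, hne⟩ := hd.moves
    have hc := Fusion.hnpc_centralize h (Q := P) hd.isP (g := y)
      (by rw [Subgroup.normalizer_eq_top]; trivial)
      (by rw [hd.ord]; exact (hcop.symm).pow_left r)
    exact hne (by rw [← Subgroup.mem_centralizer_iff.1 hc x hx, mul_inv_cancel_right])
  obtain ⟨t, ht⟩ := IsPGroup.iff_card.1 hd.isP
  have hyq : y ^ (q ^ r) = 1 := by rw [← hd.ord]; exact pow_orderOf_eq_one y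
  have hmodP : ∀ x : X, x ^ (q ^ r) ∈ P := by
    intro x
    obtain ⟨u, hu, n, rfl⟩ := exists_mul_zpow hd x
    rw [← QuotientGroup.eq_one_iff, QuotientGroup.mk_pow, QuotientGroup.mk_mul,
      (QuotientGroup.eq_one_iff u).2 hu, one_mul, ← QuotientGroup.mk_pow, QuotientGroup.eq_one_iff,
      ← zpow_natCast, ← zpow_mul, mul_comm, zpow_mul, zpow_natCast, hyq, one_zpow]
    exact one_mem _
  -- exponents modulo `P`
  let J : AddSubgroup ℤ :=
    { carrier := {n | ∃ u ∈ P, u * y ^ n ∈ K}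
      zero_mem' := ⟨1, one_mem _, by simp⟩
      add_mem' := by
        rintro m n ⟨u, hu, hm⟩ ⟨w, hw, hn⟩
        refine ⟨u * (y ^ m * w * (y ^ m)⁻¹), P.mul_mem hu (hd.normal.conj_mem w hw _), ?_⟩
        convert K.mul_mem hm hn using 1
        rw [zpow_add]; group
      neg_mem' := by
        rintro n ⟨u, hu, hn⟩
        refine ⟨(y ^ n)⁻¹ * u⁻¹ * y ^ n, by
          simpa using hd.normal.conj_mem u⁻¹ (inv_mem hu) (y ^ n)⁻¹, ?_⟩
        convert K.inv_mem hn using 1
        rw [zpow_neg]; group }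
  obtain ⟨d, hJ⟩ := Int.subgroup_cyclic J
  have hdJ : d ∈ J := hJ ▸ AddSubgroup.subset_closure rfl
  obtain ⟨u₀, hu₀, hk⟩ := hdJ
  set k := u₀ * y ^ d with hkdef
  set U := K ⊓ P with hU
  have hdec : ∀ x ∈ K, ∃ m : ℤ, x * (k ^ m)⁻¹ ∈ U := by
    intro x hx
    obtain ⟨u, hu, n, rfl⟩ := exists_mul_zpow hd x
    have hn : n ∈ J := ⟨u, hu, hx⟩
    rw [hJ, AddSubgroup.mem_closure_singleton] at hn
    obtain ⟨m, rfl⟩ := hn
    refine ⟨m, K.mul_mem hx (inv_mem (zpow_mem hk m)), ?_⟩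
    show _ ∈ P
    rw [← QuotientGroup.eq_one_iff, QuotientGroup.mk_mul, QuotientGroup.mk_inv,
      QuotientGroup.mk_mul, (QuotientGroup.eq_one_iff u).2 hu, one_mul, QuotientGroup.mk_zpow,
      QuotientGroup.mk_zpow, hkdef, QuotientGroup.mk_mul, (QuotientGroup.eq_one_iff u₀).2 hu₀,
      one_mul, QuotientGroup.mk_zpow, ← zpow_mul, smul_eq_mul, mul_comm m d, mul_inv_cancel]
  set k' := k ^ (p ^ t) with hk'
  have hk'K : k' ∈ K := K.pow_mem hk _
  have hord : orderOf k' ∣ q ^ r := by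
    refine orderOf_dvd_of_pow_eq_one ?_
    rw [hk', ← pow_mul, mul_comm, pow_mul, ← ht]
    exact congrArg Subtype.val (pow_card_eq_one' (x := (⟨k ^ (q ^ r), hmodP k⟩ : ↥P)))
  -- `k` is a power of `k'` modulo `U`
  have hkgen : ∃ e : ℤ, k * (k' ^ e)⁻¹ ∈ U := by
    have hc : IsCoprime ((p ^ t : ℕ) : ℤ) ((q ^ r : ℕ) : ℤ) :=
      Nat.isCoprime_iff_coprime.2 (hcop.pow t r)
    obtain ⟨e, f, hef⟩ := hc
    refine ⟨e, ?_⟩
    have : k * (k' ^ e)⁻¹ = (k ^ (q ^ r)) ^ f := by
      rw [hk', ← zpow_natCast, ← zpow_mul, ← zpow_natCast k (q ^ r), ← zpow_mul, ← zpow_neg]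
      conv_lhs => arg 1; rw [← zpow_one k]
      rw [← zpow_add]
      congr 1
      linarith [hef]
    rw [this]
    exact U.zpow_mem ⟨K.pow_mem hk _, hmodP k⟩ f
  obtain ⟨e, he⟩ := hkgen
  -- `k'` centralises `U`
  have hcent : ∀ x ∈ U, k' * x * k'⁻¹ = x := by
    by_cases hdq : (q : ℤ) ∣ d
    · -- inner action on `P` by a `p`-element of `q`-power order
      intro x hx
      obtain ⟨c, hc⟩ := hdq
      have hfix : ∀ x ∈ P, y ^ d * x * (y ^ d)⁻¹ = x := by
        intro x hx
        have hz : y ^ q ∈ Subgroup.centralizer ({x} : Set X) := by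
          rw [Subgroup.mem_centralizer_iff]
          rintro w rfl
          conv_lhs => rw [← hd.qfix w hx]
          group
        have hz2 : y ^ d ∈ Subgroup.centralizer ({x} : Set X) := by
          rw [hc, zpow_mul, zpow_natCast]; exact Subgroup.zpow_mem _ hz c
        rw [← Subgroup.mem_centralizer_iff.1 hz2 x rfl, mul_inv_cancel_right]
      set C : Subgroup X := Subgroup.centralizer ({x} : Set X)
      have hpow : ∀ n : ℕ, ∀ w ∈ P, k ^ n * w * (k ^ n)⁻¹ = u₀ ^ n * w * (u₀ ^ n)⁻¹ := by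
        intro n
        induction n with
        | zero => intro w _; simp
        | succ n ih =>
          intro w hw
          have h1 : k * w * k⁻¹ = u₀ * w * u₀⁻¹ := by
            rw [hkdef, show u₀ * y ^ d * w * (u₀ * y ^ d)⁻¹ = u₀ * (y ^ d * w * (y ^ d)⁻¹) * u₀⁻¹
              by group, hfix w hw]
          calc k ^ (n + 1) * w * (k ^ (n + 1))⁻¹ = k ^ n * (k * w * k⁻¹) * (k ^ n)⁻¹ := by
                rw [pow_succ]; group
            _ = u₀ ^ n * (u₀ * w * u₀⁻¹) * (u₀ ^ n)⁻¹ := by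
                rw [h1, ih _ (P.mul_mem (P.mul_mem hu₀ hw) (inv_mem hu₀))]
            _ = u₀ ^ (n + 1) * w * (u₀ ^ (n + 1))⁻¹ := by rw [pow_succ]; group
      rw [hk', hpow _ x hx.2, show u₀ ^ (p ^ t) = 1 from ?_]
      · simp
      rw [← ht]
      exact congrArg Subtype.val (pow_card_eq_one' (x := (⟨u₀, hu₀⟩ : ↥P)))
    · -- `k'` generates a Sylow `q`-subgroup
      have hk'ord : orderOf k' = q ^ r := by
        obtain ⟨j, hj, hjeq⟩ := (Nat.dvd_prime_pow hq).1 hord
        rw [hjeq]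
        by_contra hne
        have hjr : j + 1 ≤ r := by
          rcases lt_or_eq_of_le hj with h | h
          · exact h
          · exact absurd (by rw [h]) hne
        have h1 : k' ^ (q ^ (r - 1)) = 1 := by
          rw [← orderOf_dvd_iff_pow_eq_one, hjeq]; exact pow_dvd_pow q (by omega)
        have h2 : (y ^ d) ^ (p ^ t * q ^ (r - 1)) ∈ P := by
          rw [← QuotientGroup.eq_one_iff, QuotientGroup.mk_pow]
          have : ((y ^ d : X) : X ⧸ P) = (k : X ⧸ P) := by
            rw [hkdef, QuotientGroup.mk_mul, (QuotientGroup.eq_one_iff u₀).2 hu₀, one_mul]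
          rw [this, ← QuotientGroup.mk_pow, pow_mul, ← hk', h1, QuotientGroup.mk_one]
        have h3 : (y ^ d) ^ (p ^ t * q ^ (r - 1)) = 1 := by
          have hP1 := congrArg Subtype.val (pow_card_eq_one' (x := (⟨_, h2⟩ : ↥P)))
          simp only [SubmonoidClass.coe_pow, OneMemClass.coe_one, ht] at hP1
          have hy1 : ((y ^ d) ^ (p ^ t * q ^ (r - 1))) ^ (q ^ r) = 1 := by
            have hyd : (y ^ d) ^ (q ^ r) = 1 := by
              rw [← zpow_natCast, ← zpow_mul, mul_comm, zpow_mul, zpow_natCast, hyq, one_zpow]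
            rw [← pow_mul, mul_comm _ (q ^ r), pow_mul, hyd, one_pow]
          have := pow_gcd_eq_one.2 ⟨hP1, hy1⟩
          rwa [(hcop.pow t r : Nat.Coprime (p ^ t) (q ^ r)), pow_one] at this
        rw [← zpow_natCast, ← zpow_mul] at h3
        have h4 := orderOf_dvd_iff_zpow_eq_one.2 h3
        rw [hd.ord] at h4
        have h5 : q ^ r = q ^ (r - 1) * q := by rw [← pow_succ]; congr 1; omega
        rw [h5] at h4
        push_cast at h4
        rw [show d * ((p : ℤ) ^ t * (q : ℤ) ^ (r - 1)) = (q : ℤ) ^ (r - 1) * (d * (p : ℤ) ^ t)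
          by ring] at h4
        have h6 := Int.dvd_of_mul_dvd_mul_left (pow_ne_zero _ (by exact_mod_cast hq.ne_zero)) h4
        rcases (Nat.prime_iff_prime_int.1 hq).dvd_mul.1 h6 with h | h
        · exact hdq h
        · have h7 : (q : ℤ) ∣ (p : ℤ) := (Nat.prime_iff_prime_int.1 hq).dvd_of_dvd_pow h
          exact hpq ((Nat.prime_dvd_prime_iff_eq hq hp).1 (by exact_mod_cast h7)).symm
      -- the cyclic subgroups of order `q ^ r` are Sylow subgroups
      have hdisj : Disjoint P (Subgroup.zpowers y) := by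
        refine disjoint_iff.2 (Subgroup.inf_eq_bot_of_coprime ?_)
        rw [Nat.card_zpowers, hd.ord, ht]
        exact hcop.pow t r
      have hcardX : Nat.card X = p ^ t * q ^ r := by
        have hc := Subgroup.isComplement'_of_disjoint_and_mul_eq_univ hdisj (by
          rw [← Subgroup.normal_mul, hd.top, Subgroup.coe_top])
        rw [← hc.card_mul, ht, Nat.card_zpowers, hd.ord]
      have hfac : (Nat.card X).factorization q = r := by
        rw [hcardX, Nat.factorization_mul (pow_ne_zero _ hp.ne_zero) (pow_ne_zero _ hq.ne_zero),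
          hp.factorization_pow, hq.factorization_pow]
        simp [hpq]
      let S₁ : Sylow q X := Sylow.ofCard (Subgroup.zpowers y) (by
        rw [Nat.card_zpowers, hd.ord, hfac])
      let S₂ : Sylow q X := Sylow.ofCard (Subgroup.zpowers k') (by
        rw [Nat.card_zpowers, hk'ord, hfac])
      obtain ⟨w, hw⟩ := MulAction.exists_smul_eq X S₁ S₂
      have hk'mem : w⁻¹ * k' * w ∈ Subgroup.zpowers y := by
        have h1 : k' ∈ ((w • S₁ : Sylow q X) : Subgroup X) := by
          rw [hw]; exact Subgroup.mem_zpowers k'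
        rw [Sylow.coe_subgroup_smul, Subgroup.mem_pointwise_smul_iff_inv_smul_mem,
          MulAut.smul_def, MulAut.conj_inv_apply] at h1
        exact h1
      have hymem : w * y * w⁻¹ ∈ Subgroup.zpowers k' := by
        have h1 : MulAut.conj w • y ∈ ((w • S₁ : Sylow q X) : Subgroup X) := by
          rw [Sylow.coe_subgroup_smul]
          exact Subgroup.smul_mem_pointwise_smul y _ _ (Subgroup.mem_zpowers y)
        rw [hw] at h1
        exact h1
      -- transport `U` to a `y`-invariant subgroup of `P`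
      set U' := U.map (MulAut.conj w⁻¹).toMonoidHom with hU'
      have hinvK : ∀ m : ℤ, ∀ x ∈ U, k' ^ m * x * (k' ^ m)⁻¹ ∈ U := fun m x hx =>
        ⟨K.mul_mem (K.mul_mem (zpow_mem hk'K m) hx.1) (inv_mem (zpow_mem hk'K m)),
          hd.normal.conj_mem x hx.2 _⟩
      have hUP : U' ≠ P := by
        intro hUeq
        have hPK : P ≤ K := fun x hx => by
          have h1 : w⁻¹ * x * w ∈ P := by simpa using hd.normal.conj_mem x hx w⁻¹
          rw [← hUeq, hU', Subgroup.mem_map] at h1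
          obtain ⟨z, hz, hzx⟩ := h1
          have : z = x := by
            simpa [mul_assoc] using hzx
          exact this ▸ hz.1
        apply hK
        rw [eq_top_iff, ← hd.top]
        refine sup_le hPK (Subgroup.zpowers_le.2 ?_)
        have h1 : w * y * w⁻¹ ∈ K := Subgroup.zpowers_le.2 hk'K hymem
        obtain ⟨u, hu, n, rfl⟩ := exists_mul_zpow hd w
        have h2 : u * y * u⁻¹ ∈ K := by
          rwa [show u * y ^ n * y * (u * y ^ n)⁻¹ = u * y * u⁻¹ by group] at h1
        have h3 := K.mul_mem (K.mul_mem (K.inv_mem (hPK hu)) h2) (hPK hu)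
        rwa [show u⁻¹ * (u * y * u⁻¹) * u = y by group] at h3
      have hU'P : U' ≤ P := by
        rintro _ ⟨x, hx, rfl⟩
        exact hd.normal.conj_mem x hx.2 w⁻¹
      have hU'inv : ∀ x ∈ U', y * x * y⁻¹ ∈ U' := by
        rintro _ ⟨x, hx, rfl⟩
        obtain ⟨m, hm⟩ := hymem
        refine ⟨k' ^ m * x * (k' ^ m)⁻¹, hinvK m x hx, ?_⟩
        simp only [MulEquiv.coe_toMonoidHom, MulAut.conj_apply]
        simp only at hm
        rw [hm]; group
      intro x hx
      obtain ⟨n, hn⟩ := hk'mem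
      simp only at hn
      have h1 := hd.small U' hU'P hUP hU'inv (w⁻¹ * x * w) ⟨x, hx, by simp⟩
      have h2 : y ^ n ∈ Subgroup.centralizer ({w⁻¹ * x * w} : Set X) := by
        refine Subgroup.zpow_mem _ ?_ n
        rw [Subgroup.mem_centralizer_iff]
        rintro z rfl
        conv_lhs => rw [← h1]
        group
      rw [hn, Subgroup.mem_centralizer_iff] at h2
      have h3 := h2 _ rfl
      calc k' * x * k'⁻¹ = w * ((w⁻¹ * k' * w) * (w⁻¹ * x * w)) * (w⁻¹ * k' * w)⁻¹ * w⁻¹ := by group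
        _ = x := by rw [← h3]; group
  -- the complement
  set N : Subgroup ↥K := (Subgroup.zpowers k').subgroupOf K with hN
  have hdec' : ∀ x ∈ K, ∃ m : ℤ, x * (k' ^ m)⁻¹ ∈ U := by
    intro x hx
    obtain ⟨m, hm⟩ := hdec x hx
    refine ⟨e * m, hm.1 |> fun h => ⟨K.mul_mem hx (inv_mem (zpow_mem hk'K _)), ?_⟩⟩
    show _ ∈ P
    rw [← QuotientGroup.eq_one_iff]
    have h1 := (QuotientGroup.eq_one_iff _).2 hm.2
    have h2 := (QuotientGroup.eq_one_iff _).2 he.2
    rw [QuotientGroup.mk_mul, QuotientGroup.mk_inv, QuotientGroup.mk_zpow] at h1 h2 ⊢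
    rw [zpow_mul, ← mul_inv_eq_one.1 h2, h1]
  have hcomm : ∀ x ∈ K, Commute x k' := by
    intro x hx
    obtain ⟨m, hm⟩ := hdec' x hx
    have h1 : Commute (x * (k' ^ m)⁻¹) k' := by
      show _ * k' = k' * _
      conv_lhs => rw [← hcent _ hm]
      group
    have h2 := h1.mul_left ((Commute.refl k').zpow_left m)
    rwa [inv_mul_cancel_right] at h2
  haveI : N.Normal := ⟨fun n hn g => by
    rw [hN, Subgroup.mem_subgroupOf] at hn ⊢
    obtain ⟨i, hi⟩ := hn
    simp only at hi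
    simp only [Subgroup.coe_mul, Subgroup.coe_inv, ← hi]
    rw [((hcomm _ g.2).zpow_right i).eq, mul_inv_cancel_right]
    exact Subgroup.zpow_mem_zpowers _ _⟩
  refine Fusion.hnpc_of_coprime_normal_pgroup_quotient (N := N) ?_ ?_
  · rw [Nat.card_congr (Subgroup.subgroupOfEquivOfLe (Subgroup.zpowers_le.2 hk'K)).toEquiv,
      Nat.card_zpowers]
    exact (hcop.symm.pow_left r).coprime_dvd_left hord
  · intro z
    obtain ⟨x, rfl⟩ := QuotientGroup.mk_surjective z
    obtain ⟨m, hm⟩ := hdec' _ x.2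
    refine ⟨t, ?_⟩
    rw [← QuotientGroup.mk_pow, QuotientGroup.eq_one_iff, hN, Subgroup.mem_subgroupOf]
    have h1 : Commute ((x : X) * (k' ^ m)⁻¹) (k' ^ m) := (hcomm _ hm.1).zpow_right m
    have h2 : ((x : X) * (k' ^ m)⁻¹) ^ (p ^ t) = 1 := by
      rw [← ht]
      exact congrArg Subtype.val (pow_card_eq_one' (x := (⟨_, hm.2⟩ : ↥P)))
    have h3 := h1.mul_pow (p ^ t)
    rw [inv_mul_cancel_right, h2, one_mul] at h3
    rw [SubmonoidClass.coe_pow, h3]
    exact Subgroup.pow_mem _ (Subgroup.zpow_mem_zpowers _ _) _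

end Recognition

/-! ## The model -/

variable {F : Type} [Field F]

/-- the `p`-group of the universal Schmidt group -/
@[ext]
structure P0 (σ : F →+* F) (θ : F) (N : AddSubgroup F) where
  /-- the image in `F` -/
  x : F
  /-- the central part -/
  z : F ⧸ N

variable {σ : F →+* F} {θ : F} {N : AddSubgroup F}

/-- the cocycle -/
def cc (σ : F →+* F) (θ : F) (N : AddSubgroup F) (a b : F) : F ⧸ N :=
  QuotientAddGroup.mk (θ * σ a * b)

theorem cc_add_left (a a' b : F) : cc σ θ N (a + a') b = cc σ θ N a b + cc σ θ N a' b := by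
  simp only [cc, ← QuotientAddGroup.mk_add]; congr 1; rw [map_add]; ring

theorem cc_add_right (a b b' : F) : cc σ θ N a (b + b') = cc σ θ N a b + cc σ θ N a b' := by
  simp only [cc, ← QuotientAddGroup.mk_add]; congr 1; ring

theorem cc_zero_left (b : F) : cc σ θ N 0 b = 0 := by simp [cc]
theorem cc_zero_right (a : F) : cc σ θ N a 0 = 0 := by simp [cc]
theorem cc_neg_left (a b : F) : cc σ θ N (-a) b = - cc σ θ N a b := by simp [cc]
theorem cc_neg_right (a b : F) : cc σ θ N a (-b) = - cc σ θ N a b := by simp [cc]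

noncomputable instance : Group (P0 σ θ N) where
  mul u w := ⟨u.x + w.x, u.z + w.z + cc σ θ N u.x w.x⟩
  one := ⟨0, 0⟩
  inv u := ⟨-u.x, -u.z + cc σ θ N u.x u.x⟩
  mul_assoc a b c := by
    refine P0.ext (add_assoc _ _ _) ?_
    show a.z + b.z + cc σ θ N a.x b.x + c.z + cc σ θ N (a.x + b.x) c.x =
      a.z + (b.z + c.z + cc σ θ N b.x c.x) + cc σ θ N a.x (b.x + c.x)
    rw [cc_add_left, cc_add_right]; abel
  one_mul a := by
    refine P0.ext (zero_add _) ?_
    show 0 + a.z + cc σ θ N 0 a.x = a.z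
    rw [cc_zero_left]; abel
  mul_one a := by
    refine P0.ext (add_zero _) ?_
    show a.z + 0 + cc σ θ N a.x 0 = a.z
    rw [cc_zero_right]; abel
  inv_mul_cancel a := by
    refine P0.ext (neg_add_cancel _) ?_
    show -a.z + cc σ θ N a.x a.x + a.z + cc σ θ N (-a.x) a.x = 0
    rw [cc_neg_left]; abel

theorem mul_x (u w : P0 σ θ N) : (u * w).x = u.x + w.x := rfl
theorem mul_z (u w : P0 σ θ N) : (u * w).z = u.z + w.z + cc σ θ N u.x w.x := rfl
theorem one_x : (1 : P0 σ θ N).x = 0 := rfl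
theorem one_z : (1 : P0 σ θ N).z = 0 := rfl
theorem inv_x (u : P0 σ θ N) : u⁻¹.x = -u.x := rfl

noncomputable def equivProd : P0 σ θ N ≃ F × (F ⧸ N) where
  toFun u := (u.x, u.z)
  invFun w := ⟨w.1, w.2⟩
  left_inv _ := rfl
  right_inv _ := rfl

instance [Finite F] : Finite (P0 σ θ N) := Finite.of_equiv _ equivProd.symm

theorem card_P0 : Nat.card (P0 σ θ N) = Nat.card F * Nat.card (F ⧸ N) := by
  rw [Nat.card_congr equivProd, Nat.card_prod]

/-- projection to `F` -/
def projX : P0 σ θ N →* Multiplicative F where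
  toFun u := Multiplicative.ofAdd u.x
  map_one' := rfl
  map_mul' _ _ := rfl

theorem pow_x (u : P0 σ θ N) (n : ℕ) : (u ^ n).x = n • u.x := by
  induction n with
  | zero => simp [one_x]
  | succ n ih => rw [pow_succ, mul_x, ih, succ_nsmul]

theorem pow_z_of_x_zero (u : P0 σ θ N) (hu : u.x = 0) (n : ℕ) : (u ^ n).z = n • u.z := by
  induction n with
  | zero => simp [one_z]
  | succ n ih => rw [pow_succ, mul_z, ih, hu, cc_zero_right, add_zero, succ_nsmul]

variable {p q : ℕ} {ζ : F}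

theorem isPGroup (h : IsPar.{v} p q ζ σ θ N) : IsPGroup p (P0 σ θ N) := by
  haveI := h.charp
  intro u
  refine ⟨2, ?_⟩
  have h1 : (u ^ p).x = 0 := by rw [pow_x, nsmul_eq_mul, CharP.cast_eq_zero, zero_mul]
  have h2 : ∀ w : F ⧸ N, p • w = 0 := by
    intro w
    induction w using QuotientAddGroup.induction_on with
    | _ z => rw [← QuotientAddGroup.mk_nsmul, nsmul_eq_mul, CharP.cast_eq_zero, zero_mul,
        QuotientAddGroup.mk_zero]
  rw [pow_two, pow_mul]
  refine P0.ext ?_ ?_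
  · rw [pow_x, h1, nsmul_zero, one_x]
  · rw [pow_z_of_x_zero _ h1, h2, one_z]

theorem cc_smul (h : IsPar.{v} p q ζ σ θ N) (a b : F) :
    cc σ θ N (ζ * a) (ζ * b) = cc σ θ N a b := by
  simp only [cc]
  rw [QuotientAddGroup.eq]
  have h1 := neg_mem (h.hinv (θ * σ a * b))
  convert h1 using 1
  rw [map_mul]; ring

/-- the automorphism of `P0` -/
noncomputable def tau (h : IsPar.{v} p q ζ σ θ N) (hζ : ζ ≠ 0) : P0 σ θ N ≃* P0 σ θ N where
  toFun u := ⟨ζ * u.x, u.z⟩
  invFun u := ⟨ζ⁻¹ * u.x, u.z⟩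
  left_inv u := P0.ext (by show ζ⁻¹ * (ζ * u.x) = u.x; rw [inv_mul_cancel_left₀ hζ]) rfl
  right_inv u := P0.ext (by show ζ * (ζ⁻¹ * u.x) = u.x; rw [mul_inv_cancel_left₀ hζ]) rfl
  map_mul' u w := P0.ext (by show ζ * (u * w).x = ζ * u.x + ζ * w.x; rw [mul_x, mul_add])
    (by show (u * w).z = u.z + w.z + cc σ θ N (ζ * u.x) (ζ * w.x); rw [mul_z, cc_smul h])

theorem tau_pow_apply (h : IsPar.{v} p q ζ σ θ N) (hζ : ζ ≠ 0) (n : ℕ) (u : P0 σ θ N) :
    (tau h hζ ^ n : MulAut (P0 σ θ N)) u = ⟨ζ ^ n * u.x, u.z⟩ := by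
  induction n generalizing u with
  | zero => simp
  | succ n ih =>
    rw [pow_succ, MulAut.mul_apply, ih]
    refine P0.ext ?_ rfl
    show ζ ^ n * (ζ * u.x) = ζ ^ (n + 1) * u.x
    ring

theorem tau_pow_q (h : IsPar.{v} p q ζ σ θ N) (hζ : ζ ≠ 0) :
    (tau h hζ : MulAut (P0 σ θ N)) ^ q = 1 := by
  refine MulEquiv.ext fun u => ?_
  have h1 : ζ ^ q = 1 := by rw [← h.ord]; exact pow_orderOf_eq_one ζ
  rw [tau_pow_apply, h1, one_mul]
  rfl

/-- commutators in `P0` -/
theorem comm_eq (h : IsPar.{v} p q ζ σ θ N) (u w : P0 σ θ N) :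
    u * w = ⟨0, QuotientAddGroup.mk (σ u.x * w.x)⟩ * (w * u) := by
  refine P0.ext (by simp only [mul_x]; ring) ?_
  simp only [mul_z, cc_zero_left, add_zero]
  have h1 : cc σ θ N u.x w.x =
      (QuotientAddGroup.mk (σ u.x * w.x) : F ⧸ N) + cc σ θ N w.x u.x := by
    simp only [cc, ← QuotientAddGroup.mk_add]
    rw [QuotientAddGroup.eq]
    have h1 := neg_mem (h.halt u.x w.x)
    convert h1 using 1
    ring
  rw [h1]; abel

end Cfsg.Agent.SchmidtUniv
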