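import Cfsg.Agent.Lib.Small.SchmidtUniversal.Model
import Cfsg.Agent.Lib.Solv.PGroupPhi

/-!
# Structure of minimal non-`p`-nilpotent groups of order `p ^ t * q ^ r`
-/

universe u v

namespace Cfsg.Agent.SchmidtUniv

open scoped _root_.Classical

variable {X : Type u} [Group X] [Finite X] {p q r : ℕ} [Fact p.Prime] [Fact q.Prime]

/-- Itô's theorem in the two-prime case -/
theorem exists_data (hpq : p ≠ q) (h1 : ¬ Cfsg.HasNormalPComplement p X)
    (h2 : ∀ K : Subgroup X, K ≠ ⊤ → Cfsg.HasNormalPComplement p ↥K) {t : ℕ}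
    (hcard : Nat.card X = p ^ t * q ^ r) :
    ∃ (P : Subgroup X) (g : X), Data p q r P g := by
  have hp := (Fact.out : p.Prime)
  have hq := (Fact.out : q.Prime)
  have hcop : Nat.Coprime p q := (Nat.coprime_primes hp hq).2 hpq
  obtain ⟨S⟩ := (inferInstance : Nonempty (Sylow p X))
  obtain ⟨R, hRS, g, hgn, hgp, hgc⟩ : ∃ R : Subgroup X, R ≤ (S : Subgroup X) ∧
      ∃ g ∈ Subgroup.normalizer (R : Set X), (orderOf g).Coprime p ∧
        g ∉ Subgroup.centralizer (R : Set X) := by
    by_contra hne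
    push_neg at hne
    exact h1 (Fusion.hnpc_of_centralize (Fusion.sylIn_top S) hne)
  have hR : IsPGroup p ↥R := S.isPGroup'.to_le hRS
  have hbad : ∀ K : Subgroup X, K ≠ ⊤ → ∀ U : Subgroup X, IsPGroup p ↥U → U ≤ K → ∀ w ∈ K,
      w ∈ Subgroup.normalizer (U : Set X) → (orderOf w).Coprime p →
        ∀ x ∈ U, w * x * w⁻¹ = x := by
    intro K hK U hU hUK w hw hwn hwp x hx
    have h3 := Fusion.hnpc_centralize (h2 K hK) (Q := U.subgroupOf K)
      (hU.of_equiv (Subgroup.subgroupOfEquivOfLe hUK).symm) (g := ⟨w, hw⟩)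
      (Subgroup.mem_normalizer_iff.2 fun z => by
        simp only [Subgroup.mem_subgroupOf, Subgroup.coe_mul, Subgroup.coe_inv]
        exact Subgroup.mem_normalizer_iff.1 hwn z.1)
      (by rwa [Subgroup.orderOf_mk])
    have h4 := congrArg Subtype.val (Subgroup.mem_centralizer_iff.1 h3 ⟨x, hUK hx⟩
      (by simpa [Subgroup.mem_subgroupOf] using hx))
    simp only [Subgroup.coe_mul] at h4
    rw [← h4, mul_inv_cancel_right]
  have hnc : ∃ x ∈ R, g * x * g⁻¹ ≠ x := by
    by_contra hall
    push_neg at hall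
    refine hgc (Subgroup.mem_centralizer_iff.2 fun x hx => ?_)
    conv_lhs => rw [← hall x hx]
    group
  have htop : R ⊔ Subgroup.zpowers g = ⊤ := by
    by_contra hne
    obtain ⟨x, hx, hxne⟩ := hnc
    exact hxne (hbad _ hne R hR le_sup_left g (Subgroup.mem_sup_right (Subgroup.mem_zpowers g))
      hgn hgp x hx)
  have hnorm : R.Normal := by
    refine Subgroup.normalizer_eq_top_iff.1 (top_le_iff.1 ?_)
    rw [← htop]
    exact sup_le Subgroup.le_normalizer (Subgroup.zpowers_le.2 hgn)
  haveI := hnorm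
  obtain ⟨s, hs⟩ := IsPGroup.iff_card.1 hR
  have hdisj : Disjoint R (Subgroup.zpowers g) := by
    refine disjoint_iff.2 (Subgroup.inf_eq_bot_of_coprime ?_)
    rw [hs, Nat.card_zpowers]
    exact hgp.symm.pow_left s
  have hprod : p ^ s * orderOf g = p ^ t * q ^ r := by
    have hc := Subgroup.isComplement'_of_disjoint_and_mul_eq_univ hdisj (by
      rw [← Subgroup.normal_mul, htop, Subgroup.coe_top])
    rw [← hcard, ← hc.card_mul, hs, Nat.card_zpowers]
  have hst : s = t := by
    refine le_antisymm ?_ ?_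
    · have h : p ^ s ∣ p ^ t * q ^ r := hprod ▸ dvd_mul_right _ _
      exact (Nat.pow_dvd_pow_iff_le_right hp.one_lt).1 ((hcop.pow s r).dvd_of_dvd_mul_right h)
    · have h : p ^ t ∣ p ^ s * orderOf g := hprod.symm ▸ dvd_mul_right _ _
      exact (Nat.pow_dvd_pow_iff_le_right hp.one_lt).1
        ((hgp.symm.pow_left t).dvd_of_dvd_mul_right h)
  have hord : orderOf g = q ^ r := by
    rw [hst] at hprod
    exact Nat.eq_of_mul_eq_mul_left (pow_pos hp.pos t) hprod
  have hr : r ≠ 0 := by
    rintro rfl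
    rw [pow_zero, orderOf_eq_one_iff] at hord
    exact hgc (hord ▸ one_mem _)
  refine ⟨R, g, hnorm, hR, hord, htop, hnc, fun x hx => ?_, fun U hUR hne hinv x hx => ?_⟩
  · -- `g ^ q` centralises `R`
    refine hbad (R ⊔ Subgroup.zpowers (g ^ q)) ?_ R hR le_sup_left (g ^ q)
      (Subgroup.mem_sup_right (Subgroup.mem_zpowers _))
      (by rw [Subgroup.normalizer_eq_top]; trivial)
      (Nat.Coprime.coprime_dvd_left (orderOf_pow_dvd q) hgp) x hx
    intro htop'
    have hd2 : Disjoint R (Subgroup.zpowers (g ^ q)) :=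
      hdisj.mono_right (Subgroup.zpowers_le.2 (Subgroup.pow_mem _ (Subgroup.mem_zpowers g) q))
    have hc := Subgroup.isComplement'_of_disjoint_and_mul_eq_univ hd2 (by
      rw [← Subgroup.normal_mul, htop', Subgroup.coe_top])
    have h5 := hc.card_mul
    rw [hs, hst, Nat.card_zpowers, hcard] at h5
    have h6 := Nat.eq_of_mul_eq_mul_left (pow_pos hp.pos t) h5
    rw [orderOf_pow_of_dvd hq.ne_zero (hord ▸ dvd_pow_self q hr), hord] at h6
    exact absurd h6 (Nat.div_lt_self (pow_pos hq.pos r) hq.one_lt).ne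
  · -- proper invariant subgroups of `R`
    have hgU : g ∈ Subgroup.normalizer (U : Set X) := by
      have hfin : ∀ n : ℕ, ∀ z ∈ U, g ^ n * z * (g ^ n)⁻¹ ∈ U := by
        intro n
        induction n with
        | zero => intro z hz; simpa using hz
        | succ n ih =>
          intro z hz
          have := hinv _ (ih z hz)
          convert this using 1
          rw [pow_succ']; group
      refine Subgroup.mem_normalizer_iff.2 fun z => ⟨fun hz => hinv z hz, fun hz => ?_⟩
      have := hfin (orderOf g - 1) _ hz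
      have hinvg : g ^ (orderOf g - 1) = g⁻¹ := by
        rw [eq_inv_iff_mul_eq_one, ← pow_succ, Nat.sub_add_cancel (orderOf_pos g), pow_orderOf_eq_one]
      rw [hinvg] at this
      simpa [mul_assoc] using this
    refine hbad (U ⊔ Subgroup.zpowers g) ?_ U (hR.to_le hUR) le_sup_left g
      (Subgroup.mem_sup_right (Subgroup.mem_zpowers g)) hgU hgp x hx
    intro htop'
    refine hne (le_antisymm hUR fun z hz => ?_)
    have hzt : z ∈ U ⊔ Subgroup.zpowers g := by rw [htop']; trivial
    rw [← SetLike.mem_coe, Subgroup.coe_mul_of_right_le_normalizer_left U _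
      (Subgroup.zpowers_le.2 hgU)] at hzt
    obtain ⟨u, hu, v, hv, rfl⟩ := hzt
    have hvR : v ∈ R := by
      have := R.mul_mem (R.inv_mem (hUR hu)) hz
      rwa [inv_mul_cancel_left] at this
    rw [Subgroup.disjoint_def.1 hdisj hvR hv]
    simpa using hu

/-- another generator of the cyclic complement -/
theorem Data.change {P : Subgroup X} {g : X} (hd : Data p q r P g) {k : ℕ} (hk : ¬ q ∣ k) :
    Data p q r P (g ^ k) := by
  have hq := (Fact.out : q.Prime)
  have hc : Nat.Coprime (orderOf g) k := by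
    rw [hd.ord]; exact ((hq.coprime_iff_not_dvd).2 hk).pow_left r
  have hord : orderOf (g ^ k) = q ^ r := by rw [Nat.Coprime.orderOf_pow hc, hd.ord]
  have hzp : Subgroup.zpowers (g ^ k) = Subgroup.zpowers g := by
    refine Subgroup.eq_of_le_of_card_ge
      (Subgroup.zpowers_le.2 (Subgroup.pow_mem _ (Subgroup.mem_zpowers g) k)) ?_
    rw [Nat.card_zpowers, Nat.card_zpowers, hord, hd.ord]
  obtain ⟨m, hm⟩ : g ∈ Subgroup.zpowers (g ^ k) := by rw [hzp]; exact Subgroup.mem_zpowers g
  have hback : ∀ x, g ^ k * x * (g ^ k)⁻¹ = x → g * x * g⁻¹ = x := by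
    intro x hx
    have h1 : g ^ k ∈ Subgroup.centralizer ({x} : Set X) := by
      rw [Subgroup.mem_centralizer_iff]; rintro z rfl; conv_lhs => rw [← hx]
      group
    have h2 := Subgroup.zpow_mem _ h1 m
    simp only at hm
    rw [hm, Subgroup.mem_centralizer_iff] at h2
    rw [← h2 x rfl, mul_inv_cancel_right]
  have hfwd : ∀ x, g * x * g⁻¹ = x → ∀ n : ℕ, g ^ n * x * (g ^ n)⁻¹ = x := by
    intro x hx n
    induction n with
    | zero => simp
    | succ n ih =>
      rw [pow_succ', show g * g ^ n * x * (g * g ^ n)⁻¹ = g * (g ^ n * x * (g ^ n)⁻¹) * g⁻¹ by group,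
        ih, hx]
  refine ⟨hd.normal, hd.isP, hord, by rw [hzp, hd.top], ?_, fun x hx => ?_,
    fun U hUP hne hinv x hx => ?_⟩
  · obtain ⟨x, hx, hne⟩ := hd.moves
    exact ⟨x, hx, fun h => hne (hback x h)⟩
  · rw [← pow_mul, mul_comm, pow_mul]
    induction k generalizing x with
    | zero => exact absurd (dvd_zero q) hk
    | succ k _ =>
      clear hback hzp hord hc
      generalize k + 1 = n
      induction n with
      | zero => simp
      | succ n ih =>
        rw [pow_succ', show g ^ q * (g ^ q) ^ n * x * (g ^ q * (g ^ q) ^ n)⁻¹ =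
          g ^ q * ((g ^ q) ^ n * x * ((g ^ q) ^ n)⁻¹) * (g ^ q)⁻¹ by group, ih, hd.qfix x hx]
  · refine hfwd x (hd.small U hUP hne (fun z hz => ?_) x hx) k
    have h1 : ∀ n : ℕ, ∀ z ∈ U, (g ^ k) ^ n * z * ((g ^ k) ^ n)⁻¹ ∈ U := by
      intro n
      induction n with
      | zero => intro z hz; simpa using hz
      | succ n ih =>
        intro z hz
        convert hinv _ (ih z hz) using 1
        rw [pow_succ' (g ^ k) n]; group
    obtain ⟨n, hn⟩ := (mem_powers_iff_mem_zpowers (x := g ^ k) (y := g)).2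
      (by rw [hzp]; exact Subgroup.mem_zpowers g)
    simp only at hn
    rw [← hn]; exact h1 n z hz

/-- coordinates on `P` modulo its central part -/
theorem exists_coord (hpq : p ≠ q) {P : Subgroup X} {g : X} (hd : Data p q r P g) {F : Type} [Field F] [Finite F]
    {ζ : F} {σ : F →+* F} {θ : F} {N : AddSubgroup F} (hF : IsPar.{v} p q ζ σ θ N) :
    ∃ (k : ℕ) (π : ↥P →* Multiplicative F), ¬ q ∣ k ∧ Function.Surjective π ∧
      (∀ x x' : ↥P, (x' : X) = g ^ k * x * (g ^ k)⁻¹ → (π x').toAdd = ζ * (π x).toAdd) ∧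
      ∀ z : ↥P, π z = 1 → g * (z : X) * g⁻¹ = z ∧ ∀ w : ↥P, w * z = z * w := by
  have hp := (Fact.out : p.Prime)
  have hq := (Fact.out : q.Prime)
  haveI := hd.normal
  haveI := hF.charp
  set cj : MulAut ↥P := MulAut.conjNormal g with hcj
  have hcjc : ∀ x : ↥P, (cj x : X) = g * x * g⁻¹ := fun x => MulAut.conjNormal_apply g x
  set Z : Subgroup ↥P := cj.toMonoidHom.eqLocus (MonoidHom.id _) with hZ
  have hmemZ : ∀ x : ↥P, x ∈ Z ↔ cj x = x := fun x => Iff.rfl
  -- proper invariant subgroups of `↥P` lie in `Z`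
  have hsmall : ∀ U : Subgroup ↥P, U ≠ ⊤ → (∀ x ∈ U, cj x ∈ U) → U ≤ Z := by
    intro U hU hinv x hx
    refine (hmemZ x).2 (Subtype.ext ?_)
    rw [hcjc]
    refine hd.small (U.map P.subtype) (Subgroup.map_subtype_le U) ?_ ?_ x ⟨x, hx, rfl⟩
    · intro he
      refine hU (eq_top_iff.2 fun z _ => ?_)
      have hz : (z : X) ∈ U.map P.subtype := by rw [he]; exact z.2
      obtain ⟨w, hw, hwz⟩ := hz
      rwa [← Subtype.ext hwz]
    · rintro _ ⟨w, hw, rfl⟩
      exact ⟨cj w, hinv w hw, hcjc w⟩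
  obtain ⟨x₀, hx₀, hx₀ne⟩ := hd.moves
  haveI : Nontrivial ↥P := ⟨⟨⟨x₀, hx₀⟩, 1, fun h => hx₀ne (by
    rw [show x₀ = 1 from congrArg Subtype.val h]; simp)⟩⟩
  have hΦ : frattini ↥P ≤ Z := by
    refine hsmall _ ?_ fun x hx => ?_
    · intro he
      obtain ⟨M, hM, -⟩ := (eq_top_or_exists_le_coatom (⊥ : Subgroup ↥P)).resolve_left bot_ne_top
      exact hM.1 (top_le_iff.1 (he ▸ frattini_le_coatom hM))
    · have h := Subgroup.characteristic_iff_comap_eq.1
        (inferInstance : (frattini ↥P).Characteristic) cj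
      rw [← h] at hx
      exact hx
  haveI : Z.Normal := Subgroup.Normal.of_commutator_le (G := ↥P)
    ((Solv.commutator_le_frattini_pgroup hd.isP).trans hΦ)
  have hquotcomm : ∀ a b : ↥P ⧸ Z, a * b = b * a := by
    intro a b
    obtain ⟨a, rfl⟩ := QuotientGroup.mk_surjective a
    obtain ⟨b, rfl⟩ := QuotientGroup.mk_surjective b
    rw [← QuotientGroup.mk_mul, ← QuotientGroup.mk_mul, QuotientGroup.eq]
    refine hΦ (Solv.commutator_le_frattini_pgroup hd.isP ?_)
    rw [commutator_def]
    convert Subgroup.commutator_mem_commutator (Subgroup.mem_top b⁻¹) (Subgroup.mem_top a⁻¹) using 1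
    simp [commutatorElement_def, mul_assoc]
  letI : CommGroup (↥P ⧸ Z) :=
    { (inferInstance : Group (↥P ⧸ Z)) with mul_comm := hquotcomm }
  set V := Additive (↥P ⧸ Z) with hV
  let mk : ↥P → V := fun x => Additive.ofMul (x : ↥P ⧸ Z)
  have hmkadd : ∀ x y, mk (x * y) = mk x + mk y := fun x y => rfl
  have hmk0 : ∀ x, mk x = 0 ↔ x ∈ Z := fun x => QuotientGroup.eq_one_iff x
  have hmksurj : Function.Surjective mk := fun w => by
    obtain ⟨x, hx⟩ := QuotientGroup.mk_surjective (Additive.toMul w); exact ⟨x, hx⟩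
  have hpV : ∀ w : V, p • w = 0 := fun w => by
    obtain ⟨x, rfl⟩ := hmksurj w
    show Additive.ofMul ((x : ↥P ⧸ Z) ^ p) = 0
    rw [← QuotientGroup.mk_pow, (QuotientGroup.eq_one_iff _).2 (hΦ (Solv.pow_mem_frattini hd.isP x))]
    rfl
  letI : Module (ZMod p) V := AddCommGroup.zmodModule (n := p) hpV
  let T₀ : V →+ V := MonoidHom.toAdditive (QuotientGroup.map Z Z cj.toMonoidHom (fun x hx => by
    rw [Subgroup.mem_comap]
    show cj x ∈ Z
    rw [(hmemZ x).1 hx]; exact hx))
  let T : V →ₗ[ZMod p] V := T₀.toZModLinearMap p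
  have hTmk : ∀ x : ↥P, T (mk x) = mk (cj x) := fun x => rfl
  -- invariant subgroups of `V` are trivial
  have hirr : ∀ S : AddSubgroup V, (∀ w ∈ S, T w ∈ S) → ∀ w₀ ∈ S, w₀ ≠ 0 → S = ⊤ := by
    intro S hS w₀ hw₀ hne
    let U : Subgroup ↥P :=
      { carrier := {x | mk x ∈ S}
        one_mem' := by
          show mk 1 ∈ S
          rw [(hmk0 1).2 Z.one_mem]; exact S.zero_mem
        mul_mem' := fun {a b} ha hb => by show mk (a * b) ∈ S; rw [hmkadd]; exact S.add_mem ha hb
        inv_mem' := fun {a} ha => S.neg_mem ha }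
    by_cases hU : U = ⊤
    · refine eq_top_iff.2 fun w _ => ?_
      obtain ⟨x, rfl⟩ := hmksurj w
      have : x ∈ U := by rw [hU]; trivial
      exact this
    · obtain ⟨x, rfl⟩ := hmksurj w₀
      have h := hsmall U hU (fun z hz => by show mk (cj z) ∈ S; rw [← hTmk]; exact hS _ hz) hw₀
      exact absurd ((hmk0 x).2 h) hne
  set v₀ : V := mk ⟨x₀, hx₀⟩ with hv₀
  have hv₀ne : v₀ ≠ 0 := fun h => hx₀ne (by
    have := congrArg Subtype.val ((hmemZ _).1 ((hmk0 _).1 h)); rwa [hcjc] at this)
  -- no fixed points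
  have hqcj : ∀ x : ↥P, (cj ^ q : MulAut ↥P) x = x := by
    intro x
    refine Subtype.ext ?_
    rw [hcj, ← map_pow, MulAut.conjNormal_apply]
    exact hd.qfix _ x.2
  have hfree : ∀ w, T w = w → w = 0 := by
    by_contra hne
    push_neg at hne
    obtain ⟨w, hw, hwne⟩ := hne
    have htop := hirr (T₀.eqLocus (AddMonoidHom.id V))
      (fun u (hu : T u = u) => by show T (T u) = T u; rw [hu, hu]) w hw hwne
    have hfix : T v₀ = v₀ := by
      have : v₀ ∈ T₀.eqLocus (AddMonoidHom.id V) := by rw [htop]; trivial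
      exact this
    set x : ↥P := ⟨x₀, hx₀⟩
    set z := x⁻¹ * cj x with hz
    have hzZ : z ∈ Z := by
      rw [← hmk0, hz, hmkadd, show mk (cj x) = mk x from hfix]
      show - mk x + mk x = 0
      rw [neg_add_cancel]
    have hpow : ∀ n : ℕ, (cj ^ n : MulAut ↥P) x = x * z ^ n := by
      intro n
      induction n with
      | zero => simp
      | succ n ih =>
        rw [pow_succ', MulAut.mul_apply, ih, map_mul, map_pow, (hmemZ z).1 hzZ,
          show cj x = x * z by rw [hz, mul_inv_cancel_left], mul_assoc, ← pow_succ']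
    have hzq : z ^ q = 1 := by
      have := hpow q
      rw [hqcj] at this
      exact mul_left_cancel (a := x) (by rw [mul_one]; exact this.symm)
    obtain ⟨i, hi⟩ := hd.isP z
    have hz1 : z = 1 := by
      have := pow_gcd_eq_one.2 ⟨hi, hzq⟩
      rwa [((Nat.coprime_primes hp hq).2 hpq).pow_left i, pow_one] at this
    refine hx₀ne ?_
    have := congrArg Subtype.val (inv_mul_eq_one.1 (show x⁻¹ * cj x = 1 from hz1))
    rw [hcjc] at this
    exact this.symm
  have hTpow : ∀ (n : ℕ) x, (T ^ n) (mk x) = mk ((cj ^ n : MulAut ↥P) x) := by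
    intro n
    induction n with
    | zero => intro x; simp
    | succ n ih => intro x; rw [pow_succ', Module.End.mul_apply, ih, hTmk, pow_succ', MulAut.mul_apply]
  have hζ0 : ζ ≠ 0 := by
    intro h
    have := hF.ord
    rw [h, orderOf_zero] at this
    exact hq.ne_zero this.symm
  have hζprim : IsPrimitiveRoot ζ q := IsPrimitiveRoot.iff_orderOf.2 hF.ord
  letI : Algebra (ZMod p) F := ZMod.algebra F p
  -- a product of minimal polynomials kills `T`
  set Ψ : Polynomial (ZMod p) := ∏ j ∈ Finset.range q, minpoly (ZMod p) (ζ ^ j) with hΨ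
  have hΨT : Polynomial.aeval T Ψ = 0 := by
    have hdiv : (Polynomial.X ^ q - 1 : Polynomial (ZMod p)) ∣ Ψ := by
      have hm : (Polynomial.X ^ q - 1 : Polynomial (ZMod p)).Monic :=
        Polynomial.monic_X_pow_sub_C 1 hq.ne_zero
      rw [← Polynomial.map_dvd_map (algebraMap (ZMod p) F) (algebraMap (ZMod p) F).injective hm,
        Polynomial.map_sub, Polynomial.map_pow, Polynomial.map_X, Polynomial.map_one,
        ← Polynomial.C_1, X_pow_sub_C_eq_prod hζprim hq.pos (one_pow q), hΨ, Polynomial.map_prod]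
      refine Finset.prod_dvd_prod_of_dvd _ _ fun j _ => ?_
      rw [mul_one, Polynomial.dvd_iff_isRoot, Polynomial.IsRoot, Polynomial.eval_map_algebraMap]
      exact minpoly.aeval _ _
    obtain ⟨f, hf⟩ := hdiv
    have hTq : T ^ q = 1 := by
      refine LinearMap.ext fun w => ?_
      obtain ⟨x, rfl⟩ := hmksurj w
      rw [hTpow, hqcj]; rfl
    rw [hf, map_mul, map_sub, map_pow, Polynomial.aeval_X, map_one, hTq, sub_self, zero_mul]
  obtain ⟨j, hj, w₁, hw₁, hw₁ne⟩ : ∃ j ∈ Finset.range q,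
      ∃ w, Polynomial.aeval T (minpoly (ZMod p) (ζ ^ j)) w = 0 ∧ w ≠ 0 := by
    by_contra hne
    push_neg at hne
    have hall : ∀ s ⊆ Finset.range q, ∀ w,
        Polynomial.aeval T (∏ j ∈ s, minpoly (ZMod p) (ζ ^ j)) w = 0 → w = 0 := by
      intro s
      induction s using Finset.induction with
      | empty => intro _ w hw; simpa using hw
      | insert a s ha ih =>
        intro hs w hw
        rw [Finset.prod_insert ha, map_mul, Module.End.mul_apply] at hw
        rw [Finset.insert_subset_iff] at hs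
        exact ih hs.2 w (hne a hs.1 _ hw)
    exact hv₀ne (hall _ subset_rfl v₀ (by rw [← hΨ, hΨT]; rfl))
  set ρ := ζ ^ j with hρ
  have hcomm : ∀ (f : Polynomial (ZMod p)) w, Polynomial.aeval T f (T w) =
      T (Polynomial.aeval T f w) := by
    intro f w
    have h := congrArg (fun e : Module.End (ZMod p) V => e w)
      (congrArg (Polynomial.aeval T) (mul_comm f Polynomial.X))
    simpa [map_mul, Module.End.mul_apply] using h
  have hm0 : ∀ w, Polynomial.aeval T (minpoly (ZMod p) ρ) w = 0 := by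
    intro w
    have htop := hirr (Polynomial.aeval T (minpoly (ZMod p) ρ)).toAddMonoidHom.ker
      (fun u hu => by
        rw [AddMonoidHom.mem_ker] at hu ⊢
        show Polynomial.aeval T _ (T u) = 0
        rw [hcomm, show Polynomial.aeval T (minpoly (ZMod p) ρ) u = 0 from hu, map_zero])
      w₁ hw₁ hw₁ne
    have : w ∈ (Polynomial.aeval T (minpoly (ZMod p) ρ)).toAddMonoidHom.ker := by rw [htop]; trivial
    exact this
  have hρ1 : ρ ≠ 1 := by
    intro h
    have := hm0 v₀
    rw [h, minpoly.one, map_sub, Polynomial.aeval_X, map_one, LinearMap.sub_apply,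
      Module.End.one_apply, sub_eq_zero] at this
    exact hv₀ne (hfree _ this)
  have hρq : ρ ^ q = 1 := by
    rw [hρ, ← pow_mul, mul_comm, pow_mul, ← hF.ord, pow_orderOf_eq_one, one_pow]
  have hρprim : IsPrimitiveRoot ρ q :=
    IsPrimitiveRoot.iff_orderOf.2 (orderOf_eq_prime hρq hρ1)
  haveI : NeZero q := ⟨hq.ne_zero⟩
  obtain ⟨k, hk, hkρ⟩ := hρprim.eq_pow_of_pow_eq_one (ξ := ζ) (hF.ord ▸ pow_orderOf_eq_one ζ)
  have hqk : ¬ q ∣ k := by
    intro h
    rw [Nat.eq_zero_of_dvd_of_lt h hk, pow_zero] at hkρ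
    have := hF.ord
    rw [← hkρ, orderOf_one] at this
    exact hq.one_lt.ne this
  -- generation by `ρ`
  have hgenρ : ∀ S : AddSubgroup F, (1 : F) ∈ S → (∀ x ∈ S, ρ * x ∈ S) → S = ⊤ := by
    intro S h1 hS
    refine hF.gen S h1 fun x hx => ?_
    rw [← hkρ]
    clear hk hkρ hqk
    induction k generalizing x with
    | zero => simpa using hx
    | succ k ih => rw [pow_succ, mul_assoc]; exact ih _ (hS x hx)
  -- the coordinate map
  let ev : Polynomial (ZMod p) →+ F := (Polynomial.aeval ρ).toLinearMap.toAddMonoidHom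
  let g₀ : Polynomial (ZMod p) →+ V :=
    AddMonoidHom.mk' (fun f => Polynomial.aeval T f v₀) (fun a b => by
      show Polynomial.aeval T (a + b) v₀ = _
      rw [map_add, LinearMap.add_apply])
  have hev : Function.Surjective ev := by
    intro x
    have h := hgenρ ev.range ⟨1, map_one (Polynomial.aeval ρ)⟩ (by
      rintro _ ⟨f, rfl⟩
      exact ⟨Polynomial.X * f, by
        show Polynomial.aeval ρ (Polynomial.X * f) = ρ * Polynomial.aeval ρ f
        rw [map_mul, Polynomial.aeval_X]⟩)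
    have hx : x ∈ ev.range := by rw [h]; trivial
    exact hx
  have hker : ev.ker ≤ g₀.ker := by
    intro f hf
    obtain ⟨c, rfl⟩ := minpoly.dvd (ZMod p) ρ (show Polynomial.aeval ρ f = 0 from hf)
    show Polynomial.aeval T (minpoly (ZMod p) ρ * c) v₀ = 0
    rw [map_mul, Module.End.mul_apply, hm0]
  set e : F →+ V := ev.liftOfSurjective hev ⟨g₀, hker⟩ with he
  have hecomp : ∀ f, e (ev f) = g₀ f := fun f =>
    AddMonoidHom.liftOfRightInverse_comp_apply ev _ (Function.rightInverse_surjInv hev) ⟨g₀, hker⟩ f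
  have heρ : ∀ u, e (ρ * u) = T (e u) := by
    intro u
    obtain ⟨f, rfl⟩ := hev u
    have h1 : ρ * ev f = ev (Polynomial.X * f) := by
      show ρ * Polynomial.aeval ρ f = Polynomial.aeval ρ (Polynomial.X * f)
      rw [map_mul, Polynomial.aeval_X]
    rw [h1, hecomp, hecomp]
    show Polynomial.aeval T (Polynomial.X * f) v₀ = T (Polynomial.aeval T f v₀)
    rw [map_mul, Polynomial.aeval_X, Module.End.mul_apply]
  have he1 : e 1 = v₀ := by
    rw [show (1 : F) = ev 1 from (map_one (Polynomial.aeval ρ)).symm, hecomp]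
    show Polynomial.aeval T 1 v₀ = v₀
    rw [map_one, Module.End.one_apply]
  have hinj : Function.Injective e := by
    rw [injective_iff_map_eq_zero]
    intro x hx
    by_contra hne
    have h := hgenρ (AddSubgroup.comap (AddMonoidHom.mulRight x) e.ker)
      (by
        rw [AddSubgroup.mem_comap, AddMonoidHom.mem_ker, AddMonoidHom.mulRight_apply, one_mul, hx])
      (fun u hu => by
        rw [AddSubgroup.mem_comap, AddMonoidHom.mem_ker, AddMonoidHom.mulRight_apply] at hu ⊢
        rw [mul_assoc, heρ, hu, map_zero])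
    have h1 : x⁻¹ ∈ AddSubgroup.comap (AddMonoidHom.mulRight x) e.ker := by rw [h]; trivial
    rw [AddSubgroup.mem_comap, AddMonoidHom.mem_ker, AddMonoidHom.mulRight_apply,
      inv_mul_cancel₀ hne, he1] at h1
    exact hv₀ne h1
  have hsurj : Function.Surjective e := by
    intro w
    have h := hirr e.range (by rintro _ ⟨u, rfl⟩; exact ⟨ρ * u, heρ u⟩) v₀ ⟨1, he1⟩ hv₀ne
    have hw : w ∈ e.range := by rw [h]; trivial
    exact hw
  let E := AddEquiv.ofBijective e ⟨hinj, hsurj⟩
  let π : ↥P →* Multiplicative F :=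
    { toFun := fun x => Multiplicative.ofAdd (E.symm (mk x))
      map_one' := by rw [(hmk0 1).2 Z.one_mem, map_zero]; rfl
      map_mul' := fun x y => by rw [hmkadd, map_add]; rfl }
  refine ⟨k, π, hqk, fun u => ?_, fun x x' hx' => ?_, fun z hz => ?_⟩
  · obtain ⟨x, hx⟩ := hmksurj (E u.toAdd)
    refine ⟨x, ?_⟩
    show Multiplicative.ofAdd (E.symm (mk x)) = u
    rw [hx, E.symm_apply_apply]; rfl
  · show E.symm (mk x') = ζ * E.symm (mk x)
    have h1 : x' = (cj ^ k : MulAut ↥P) x := Subtype.ext (by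
      rw [hx', hcj, ← map_pow, MulAut.conjNormal_apply])
    rw [AddEquiv.symm_apply_eq, h1, ← hTpow, ← hkρ]
    generalize hu : E.symm (mk x) = u
    have hu' : mk x = e u := by rw [← hu]; exact (E.apply_symm_apply _).symm
    rw [hu']
    show (T ^ k) (e u) = e (ρ ^ k * u)
    clear hk hkρ hqk h1 hx' hu hu'
    induction k generalizing u with
    | zero => simp
    | succ k ih => rw [pow_succ, Module.End.mul_apply, pow_succ, mul_assoc, ← ih, heρ]
  · have hzZ : z ∈ Z := by
      rw [← hmk0]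
      have h1 : E.symm (mk z) = 0 := congrArg Multiplicative.toAdd hz
      exact (E.symm.map_eq_zero_iff).1 h1
    have hfix := (hmemZ z).1 hzZ
    refine ⟨by rw [← hcjc, hfix], ?_⟩
    set C : Subgroup ↥P := Subgroup.centralizer ({z} : Set ↥P) with hC
    have hCmem : ∀ x, x ∈ C ↔ x * z = z * x := fun x => by
      rw [hC, Subgroup.mem_centralizer_iff]
      exact ⟨fun h => (h z rfl).symm, fun h m hm => by rw [Set.mem_singleton_iff.1 hm]; exact h.symm⟩
    by_contra hne
    push_neg at hne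
    obtain ⟨w, hw⟩ := hne
    have hCZ : C ≤ Z := by
      refine hsmall C (fun h => hw ((hCmem w).1 (h ▸ Subgroup.mem_top w))) fun x hx => ?_
      rw [hCmem] at hx ⊢
      have := congrArg cj hx
      rwa [map_mul, map_mul, hfix] at this
    have hall : ∀ x : ↥P, x⁻¹ * cj x ∈ C := by
      intro x
      rw [hCmem]
      have h1 : cj (x * z * x⁻¹) = x * z * x⁻¹ :=
        (hmemZ _).1 (Subgroup.Normal.conj_mem inferInstance z hzZ x)
      rw [map_mul, map_mul, map_inv, hfix] at h1
      calc x⁻¹ * cj x * z = x⁻¹ * (cj x * z * (cj x)⁻¹) * cj x := by group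
        _ = z * (x⁻¹ * cj x) := by rw [h1]; group
    refine hv₀ne (hfree _ ?_)
    have h2 := (hmk0 _).2 (hCZ (hall ⟨x₀, hx₀⟩))
    rw [hmkadd] at h2
    rw [hv₀, hTmk]
    exact (eq_of_sub_eq_zero (by rw [sub_eq_neg_add]; exact h2))

end Cfsg.Agent.SchmidtUniv
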